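import Cfsg.Agent.Known.PolarBN.Symplectic
import Cfsg.Agent.Classical.Orth.StdForms
import Cfsg.Agent.Classical.Misc.Dickson

/-! The polar space of an orthogonal group of dimension at least five, and its Steinberg character. -/

set_option autoImplicit false
set_option linter.style.haveILetI false

namespace Cfsg.Lib.PolarBN

open Cfsg.Lib.Classical Matrix

universe u

variable {F : Type u} [Field F] [Finite F] {ι : Type} [Fintype ι] [DecidableEq ι] (Q : QuadraticForm F (ι → F))

omit [Finite F] in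
theorem polar_mat (g : Cfsg.isometryGroup F (⇑Q)) (x y : ι → F) :
    QuadraticMap.polar (⇑Q) (Refl.mat Q g *ᵥ x) (Refl.mat Q g *ᵥ y) = QuadraticMap.polar (⇑Q) x y := by
  simp only [QuadraticMap.polar, ← Matrix.mulVec_add, (Refl.mem_iff Q).mp g.2]

/-- The orthogonal polar space. -/
noncomputable def orthPolar (hQ : (QuadraticMap.polarBilin Q).Nondegenerate) (hn : 5 ≤ Fintype.card ι) {m : ℕ}
    (e f : Fin m → ι → F) (he : ∀ i, Q (e i) = 0) (hf : ∀ i, Q (f i) = 0)
    (ee : ∀ i j, QuadraticMap.polar (⇑Q) (e i) (e j) = 0) (ff : ∀ i j, QuadraticMap.polar (⇑Q) (f i) (f j) = 0)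
    (ef : ∀ i j, QuadraticMap.polar (⇑Q) (e i) (f j) = if i = j then 1 else 0)
    (aniso : ∀ x, (∀ i, QuadraticMap.polar (⇑Q) x (e i) = 0 ∧ QuadraticMap.polar (⇑Q) x (f i) = 0) → Q x = 0 → x = 0)
    (D : Prop) (two : D → 2 ≤ m)
    (noMid : D → ∀ x, (∀ i, QuadraticMap.polar (⇑Q) x (e i) = 0 ∧ QuadraticMap.polar (⇑Q) x (f i) = 0) → x = 0)
    (short : ¬ D → ∃ z, (∀ i, QuadraticMap.polar (⇑Q) z (e i) = 0 ∧ QuadraticMap.polar (⇑Q) z (f i) = 0) ∧ Q z ≠ 0)
    (last : D → ∀ g : Cfsg.isometryGroup F (⇑Q), g ∈ Cfsg.Omega F (⇑Q) →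
      (∀ i : Fin m, i.val + 1 < m → Refl.mat Q g *ᵥ e i ∈ Submodule.span F (e '' {j | j.val ≤ i.val})) →
      ∀ i : Fin m, i.val + 1 = m → Refl.mat Q g *ᵥ e i ∈ Submodule.span F (Set.range e))
    (pos : 1 ≤ m) : Polar ↥(Cfsg.Omega F (⇑Q)) F (ι → F) m where
  ρ :=
    { toFun := fun g => Matrix.toLin' (Refl.mat Q g.1)
      map_one' := by
        show Matrix.toLin' (1 : Matrix ι ι F) = 1
        simp [Module.End.one_eq_id]
      map_mul' := fun A B => by
        show Matrix.toLin' (Refl.mat Q A.1 * Refl.mat Q B.1) = _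
        simp [Matrix.toLin'_mul, Module.End.mul_eq_comp] }
  inj g h e := Subtype.ext (Subtype.ext (Units.ext (Matrix.toLin'.injective e)))
  σ := RingHom.id F
  σσ _ := rfl
  ε := 1
  ε_sq := one_mul 1
  σε := rfl
  β := QuadraticMap.polar (⇑Q)
  add_left := QuadraticMap.polar_add_left Q
  smul_left c x z := by rw [QuadraticMap.polar_smul_left, smul_eq_mul]
  symm x y := by rw [one_mul, RingHom.id_apply, QuadraticMap.polar_comm]
  nd x hx := hQ.1 x hx
  map g x y := polar_mat Q g.1 x y
  Sing x := Q x = 0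
  sing_smul c x hx := by rw [QuadraticMap.map_smul, hx, smul_zero]
  sing_add x y hx hy hxy := by rw [QuadraticMap.map_add (f := Q), hx, hy, hxy]; ring
  sing_map g x hx := by
    show Q (Matrix.toLin' (Refl.mat Q g.1) x) = 0
    rw [Matrix.toLin'_apply, (Refl.mem_iff Q).mp g.1.2]; exact hx
  sing_self x hx := by rw [QuadraticMap.polar_self, hx, smul_zero]
  par z a := a = -Q z
  par_ex z := ⟨_, rfl⟩
  par_smul c z a h := by
    show c * c * a = -Q (c • z)
    rw [QuadraticMap.map_smul, h, smul_eq_mul]; ring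
  par_map g z a h := by
    show a = -Q (Matrix.toLin' (Refl.mat Q g.1) z)
    rw [Matrix.toLin'_apply, (Refl.mem_iff Q).mp g.1.2]; exact h
  par_zero_iff z := by rw [eq_comm, neg_eq_zero]
  par_of x y z c hx hy hxy hzx hzy h := by
    rw [QuadraticMap.map_add (f := Q), QuadraticMap.map_add (f := Q), QuadraticMap.map_smul, hx, hy,
      QuadraticMap.polar_smul_right, QuadraticMap.polar_add_left, hzx, QuadraticMap.polar_comm (⇑Q) y x, hxy,
      QuadraticMap.polar_comm (⇑Q) y z, hzy, smul_eq_mul, smul_eq_mul] at h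
    rw [one_mul, one_smul]
    linear_combination h
  sieg x z a hx hzx ha := by
    have hxz : QuadraticMap.polar (⇑Q) x z = 0 := by rw [QuadraticMap.polar_comm]; exact hzx
    refine ⟨⟨Refl.siegelG Q hx hxz, Refl.siegelG_mem_omega Q hQ hn hx hxz⟩, fun y => ?_⟩
    show Matrix.toLin' (Refl.mat Q (Refl.siegelG Q hx hxz)) y = _
    rw [Matrix.toLin'_apply, Refl.mat_siegelG, Refl.siegelMap, ha, QuadraticMap.polar_comm (⇑Q) y x,
      QuadraticMap.polar_comm (⇑Q) y z]
    module
  e := e
  f := f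
  e_sing := he
  f_sing := hf
  ee := ee
  ff := ff
  ef := ef
  aniso := aniso
  D := D
  two := two
  noMid := noMid
  noPar _ a ha := by rw [ha, QuadraticMap.map_zero, neg_zero]
  short h := by
    obtain ⟨z, hz, hQz⟩ := short h
    exact ⟨z, hz, -Q z, neg_ne_zero.2 hQz, rfl⟩
  last h g hg i hi := last h g.1 g.2 hg i hi
  pos := pos

omit [Finite F] in
/-- In the hyperbolic case, an element of `Ω` fixing the first flag vectors fixes the maximal flag space. -/
theorem last_of_parity (hQ : (QuadraticMap.polarBilin Q).Nondegenerate) {m : ℕ} (hV : Fintype.card ι = 2 * m)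
    (e f : Fin m → ι → F) (he : ∀ i, Q (e i) = 0) (ee : ∀ i j, QuadraticMap.polar (⇑Q) (e i) (e j) = 0)
    (ef : ∀ i j, QuadraticMap.polar (⇑Q) (e i) (f j) = if i = j then 1 else 0)
    (g : Cfsg.isometryGroup F (⇑Q)) (hgΩ : g ∈ Cfsg.Omega F (⇑Q))
    (hg : ∀ i : Fin m, i.val + 1 < m → Refl.mat Q g *ᵥ e i ∈ Submodule.span F (e '' {j | j.val ≤ i.val}))
    (i : Fin m) : Refl.mat Q g *ᵥ e i ∈ Submodule.span F (Set.range e) := by
  set M := Submodule.span F (Set.range e) with hM
  have hMe : ∀ x ∈ M, ∀ j, QuadraticMap.polar (⇑Q) x (e j) = 0 := by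
    intro x hx j
    induction hx using Submodule.span_induction with
    | mem y hy => obtain ⟨k, rfl⟩ := hy; exact ee k j
    | zero => exact QuadraticMap.polar_zero_left Q _
    | add y z _ _ hy hz => rw [QuadraticMap.polar_add_left, hy, hz, add_zero]
    | smul c y _ hy => rw [QuadraticMap.polar_smul_left, hy, smul_zero]
  have hMM : ∀ x ∈ M, ∀ y ∈ M, QuadraticMap.polar (⇑Q) x y = 0 := by
    intro x hx y hy
    induction hy using Submodule.span_induction with
    | mem y hy => obtain ⟨k, rfl⟩ := hy; exact hMe x hx k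
    | zero => exact QuadraticMap.polar_zero_right Q _
    | add y z _ _ hy hz => rw [QuadraticMap.polar_add_right, hy, hz, add_zero]
    | smul c y _ hy => rw [QuadraticMap.polar_smul_right, hy, smul_zero]
  have hMQ : ∀ x ∈ M, Q x = 0 := by
    intro x hx
    induction hx using Submodule.span_induction with
    | mem y hy => obtain ⟨k, rfl⟩ := hy; exact he k
    | zero => exact QuadraticMap.map_zero Q
    | add y z hy hz hy' hz' => rw [QuadraticMap.map_add (f := Q), hy', hz', hMM y hy z hz]; ring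
    | smul c y _ hy => rw [QuadraticMap.map_smul, hy, smul_zero]
  have hli : LinearIndependent F e := by
    rw [Fintype.linearIndependent_iff]
    intro c hc j
    have h := congrArg (fun x => (QuadraticMap.polarBilin Q).flip (f j) x) hc
    simp only [map_sum, map_smul, map_zero, LinearMap.flip_apply, QuadraticMap.polarBilin_apply_apply, ef,
      smul_eq_mul, mul_ite, mul_one, mul_zero, Finset.sum_ite_eq', Finset.mem_univ, if_true] at h
    exact h
  have hMd : Module.finrank F M = m := by rw [hM, finrank_span_eq_card hli, Fintype.card_fin]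
  let L : Cfsg.isometryGroup F (⇑Q) → ((ι → F) →ₗ[F] (ι → F)) := fun k => Matrix.toLin' (Refl.mat Q k)
  have Lmul : ∀ a b, L (a * b) = (L a).comp (L b) := fun a b => by
    show Matrix.toLin' (Refl.mat Q a * Refl.mat Q b) = _
    rw [Matrix.toLin'_mul]
  have Linj : ∀ k, Function.Injective (L k) := fun k => by
    refine Function.LeftInverse.injective (g := L k⁻¹) fun x => ?_
    rw [← LinearMap.comp_apply, ← Lmul, inv_mul_cancel]
    show Matrix.toLin' (1 : Matrix ι ι F) x = x
    simp
  have hmax : ∀ k, HypQuad.IsMax Q m (M.map (L k)) := fun k => by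
    refine ⟨by rw [← (Submodule.equivMapOfInjective _ (Linj k) M).finrank_eq, hMd], ?_⟩
    rintro _ ⟨x, hx, rfl⟩
    show Q (Matrix.toLin' (Refl.mat Q k) x) = 0
    rw [Matrix.toLin'_apply, (Refl.mem_iff Q).mp k.2]
    exact hMQ x hx
  have hM1 : M.map (L 1) = M := by
    show M.map (Matrix.toLin' (1 : Matrix ι ι F)) = M
    rw [Matrix.toLin'_one, Submodule.map_id]
  let r : Cfsg.isometryGroup F (⇑Q) → ℕ := fun k => m - Module.finrank F ↥(M ⊓ M.map (L k))
  have key : ∀ a b, Even (r a + r b + r (a * b)) := by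
    intro a b
    have h := HypQuad.parity Q hQ (by rw [Module.finrank_fintype_fun_eq_card]; exact hV) (hM1 ▸ hmax 1) (hmax a)
      (hmax (a * b))
    rw [Lmul, Submodule.map_comp, ← Submodule.map_inf _ (Linj a),
      ← (Submodule.equivMapOfInjective _ (Linj a) (M ⊓ M.map (L b))).finrank_eq, ← Submodule.map_comp, ← Lmul] at h
    exact h
  let χ : Cfsg.isometryGroup F (⇑Q) →* ℤˣ :=
    { toFun := fun k => (-1) ^ r k
      map_one' := by
        have : r 1 = 0 := by
          show m - Module.finrank F ↥(M ⊓ M.map (L 1)) = 0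
          rw [hM1, inf_idem, hMd, Nat.sub_self]
        rw [this, pow_zero]
      map_mul' := fun a b => by
        rw [← pow_add]
        apply neg_one_pow_congr
        have h := key a b
        rw [Nat.even_iff] at h
        rw [Nat.even_iff, Nat.even_iff]
        omega }
  have hχ : (-1 : ℤˣ) ^ r g = 1 := Abelianization.commutator_subset_ker χ hgΩ
  have hev : Even (r g) := by
    rcases Nat.even_or_odd (r g) with h | h
    · exact h
    · rw [h.neg_one_pow] at hχ; exact absurd hχ (by decide)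
  have hle : Submodule.span F (e '' {j : Fin m | j.val + 1 < m}) ≤ M :=
    Submodule.span_mono (Set.image_subset_range _ _)
  have hsub : (Submodule.span F (e '' {j : Fin m | j.val + 1 < m})).map (L g) ≤ M ⊓ M.map (L g) := by
    refine le_inf ?_ (Submodule.map_mono hle)
    rw [Submodule.map_span, Submodule.span_le]
    rintro _ ⟨_, ⟨j, hj, rfl⟩, rfl⟩
    exact Submodule.span_mono (Set.image_subset_range _ _) (by
      show Matrix.toLin' (Refl.mat Q g) (e j) ∈ _
      rw [Matrix.toLin'_apply]; exact hg j hj)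
  have hge : m ≤ Module.finrank F ↥(M ⊓ M.map (L g)) + 1 := by
    have h1 := Submodule.finrank_mono hsub
    rw [← (Submodule.equivMapOfInjective _ (Linj g) _).finrank_eq] at h1
    have h2 : Module.finrank F ↥(Submodule.span F (e '' {j : Fin m | j.val + 1 < m})) = m - 1 := by
      have hl : LinearIndependent F (fun j : {j : Fin m // j.val + 1 < m} => e j.1) :=
        hli.comp _ Subtype.val_injective
      rw [show e '' {j : Fin m | j.val + 1 < m} = Set.range (fun j : {j : Fin m // j.val + 1 < m} => e j.1) by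
        ext x; simp [Set.mem_image], finrank_span_eq_card hl]
      rw [Fintype.card_congr (show {j : Fin m // j.val + 1 < m} ≃ Fin (m - 1) from
        { toFun := fun j => ⟨j.1.val, by omega⟩
          invFun := fun j => ⟨⟨j.val, by omega⟩, by show j.val + 1 < m; omega⟩
          left_inv := fun j => rfl
          right_inv := fun j => rfl }), Fintype.card_fin]
    omega
  have hr : r g = 0 := by
    have h : r g ≤ 1 := by show m - _ ≤ 1; omega
    rcases Nat.le_one_iff_eq_zero_or_eq_one.1 h with h | h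
    · exact h
    · rw [h] at hev; exact absurd hev (by decide)
  have heq : M ⊓ M.map (L g) = M.map (L g) := by
    refine Submodule.eq_of_le_of_finrank_le inf_le_right ?_
    rw [(hmax g).1]
    have : m - Module.finrank F ↥(M ⊓ M.map (L g)) = 0 := hr
    omega
  have hgM : M.map (L g) ≤ M := heq ▸ inf_le_left
  rw [← Matrix.toLin'_apply]
  exact hgM ⟨e i, Submodule.subset_span ⟨i, rfl⟩, rfl⟩

/-- If the middle is an anisotropic plane, no element of `Ω` of order `p` fixes the frame. -/
theorem mid_of_plane (hQ : (QuadraticMap.polarBilin Q).Nondegenerate) {m : ℕ}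
    (P : Polar ↥(Cfsg.Omega F (⇑Q)) F (ι → F) m) (hβ : P.β = QuadraticMap.polar (⇑Q))
    (hρ : ∀ g y, P.ρ g y = Refl.mat Q g.1 *ᵥ y) (p : ℕ) [Fact p.Prime] [CharP F p]
    (hani : ∀ w, P.W w → Q w = 0 → w = 0)
    (hplane : ∀ w u, P.W w → P.W u → w ≠ 0 → (∀ c : F, c • w ≠ u) → ∀ y, P.W y → ∃ a b : F, a • w + b • u = y)
    (g : ↥(Cfsg.Omega F (⇑Q))) (hfix : ∀ a, P.ρ g (P.vec a) = P.vec a) (hg : g ^ p = 1) : g = 1 := by
  have hgm : g ∈ P.mono := fun a => ⟨a, by rw [hfix]; exact P.vec_mem_ln a⟩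
  by_cases h1 : ∀ w, P.W w → P.ρ g w = w
  · exact P.fix_frame hfix h1
  push Not at h1
  obtain ⟨x₀, hx₀, hx₀'⟩ := h1
  let N : Module.End F (ι → F) := P.ρ g - 1
  have hN : ∀ y, N y = P.ρ g y - y := fun y => rfl
  have hNW : ∀ y, P.W y → P.W (N y) := fun y hy i => by
    have := P.mono_W hgm hy i
    exact ⟨by rw [hN, P.sub_left, this.1, (hy i).1, sub_zero], by rw [hN, P.sub_left, this.2, (hy i).2, sub_zero]⟩
  haveI : Nonempty ι := by
    by_contra h
    rw [not_nonempty_iff] at h
    exact hx₀' (Subsingleton.elim _ _)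
  haveI : Nontrivial (Module.End F (ι → F)) := inferInstance
  haveI : CharP (Module.End F (ι → F)) p :=
    charP_of_injective_algebraMap (FaithfulSMul.algebraMap_injective F (Module.End F (ι → F))) p
  have hNp : N ^ p = 0 := by
    show (P.ρ g - 1) ^ p = 0
    rw [sub_pow_char_of_commute p (Commute.one_right _), one_pow, ← map_pow, hg, map_one, sub_self]
  have hpowW : ∀ k : ℕ, ∀ y, P.W y → P.W ((N ^ k) y) := by
    intro k
    induction k with
    | zero => intro y hy; rw [pow_zero]; exact hy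
    | succ k ih => intro y hy; rw [pow_succ', Module.End.mul_apply]; exact hNW _ (ih y hy)
  obtain ⟨w, hwW, hw0, hw⟩ : ∃ w, P.W w ∧ w ≠ 0 ∧ N w = 0 := by
    classical
    have hex : ∃ k, (N ^ k) x₀ = 0 := ⟨p, by rw [hNp]; rfl⟩
    have hk := Nat.find_spec hex
    have hk0 : Nat.find hex ≠ 0 := fun e => by
      rw [e, pow_zero] at hk
      have hk' : x₀ = 0 := hk
      exact hx₀' (by rw [hk', map_zero])
    obtain ⟨k, hk'⟩ := Nat.exists_eq_succ_of_ne_zero hk0
    rw [hk', pow_succ', Module.End.mul_apply] at hk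
    exact ⟨(N ^ k) x₀, hpowW k x₀ hx₀, Nat.find_min hex (by omega), hk⟩
  have hgw : P.ρ g w = w := sub_eq_zero.1 ((hN w).symm.trans hw)
  have hline : ∀ y, P.W y → ∃ c : F, c • w = N y := by
    intro y hy
    by_contra h
    push Not at h
    obtain ⟨a, b, hab⟩ := hplane w (N y) hwW (hNW y hy) hw0 h y hy
    have hu : b • N (N y) = N y := by
      conv_rhs => rw [← hab]
      rw [map_add, map_smul, map_smul, hw, smul_zero, zero_add]
    have hk : ∀ k : ℕ, b ^ k • (N ^ k) (N y) = N y := by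
      intro k
      induction k with
      | zero => simp
      | succ k ih =>
        rw [pow_succ, pow_succ, Module.End.mul_apply, mul_smul, ← map_smul, hu]
        exact ih
    have h2 := hk p
    rw [hNp] at h2
    exact h 0 (by rw [zero_smul]; simpa using h2)
  have hQw : Q w ≠ 0 := fun e => hw0 (hani w hwW e)
  have hQg : ∀ y, Q (P.ρ g y) = Q y := fun y => by rw [hρ]; exact (Refl.mem_iff Q).mp g.1.2 y
  have hcase : ∀ y c, P.W y → c • w = N y →
      c * (2 * Q w) = 0 ∧ (c = 0 ∨ c * Q w = -QuadraticMap.polar (⇑Q) y w) := by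
    intro y c hy hc
    have hgy : P.ρ g y = y + c • w := by rw [hc, hN]; abel
    constructor
    · have h := P.map g y w
      rw [hgw, hgy, hβ, QuadraticMap.polar_add_left, QuadraticMap.polar_smul_left, QuadraticMap.polar_self,
        smul_eq_mul, nsmul_eq_mul, Nat.cast_ofNat] at h
      linear_combination h
    · have h := hQg y
      rw [hgy, QuadraticMap.map_add (f := Q), QuadraticMap.map_smul, QuadraticMap.polar_smul_right, smul_eq_mul,
        smul_eq_mul] at h
      by_cases hc0 : c = 0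
      · exact Or.inl hc0
      · refine Or.inr (mul_left_cancel₀ hc0 ?_)
        linear_combination h
  obtain ⟨c₀, hc₀⟩ := hline x₀ hx₀
  have hc00 : c₀ ≠ 0 := fun e => hx₀' (sub_eq_zero.1 (by rw [← hN, ← hc₀, e, zero_smul]))
  have h2 : (2 : F) * Q w = 0 := (mul_eq_zero.1 (hcase x₀ c₀ hx₀ hc₀).1).resolve_left hc00
  have h20 : (2 : F) = 0 := (mul_eq_zero.1 h2).resolve_right hQw
  have hval : ∀ y, P.W y → P.ρ g y = Refl.mat Q (Refl.refl Q w hQw) *ᵥ y := by
    intro y hy
    obtain ⟨c, hc⟩ := hline y hy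
    have hc' : c * Q w = -QuadraticMap.polar (⇑Q) y w := by
      rcases (hcase y c hy hc).2 with e | e
      · have hx0 := (hcase x₀ c₀ hx₀ hc₀).2.resolve_left hc00
        have hxy : P.W (x₀ + y) := fun i =>
          ⟨by rw [P.add_left, (hx₀ i).1, (hy i).1, add_zero], by rw [P.add_left, (hx₀ i).2, (hy i).2, add_zero]⟩
        have hs : (c₀ + c) • w = N (x₀ + y) := by rw [map_add, add_smul, hc₀, hc]
        have hs2 := (hcase (x₀ + y) (c₀ + c) hxy hs).2.resolve_left (by rw [e, add_zero]; exact hc00)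
        rw [QuadraticMap.polar_add_left] at hs2
        linear_combination hs2 - hx0
      · exact e
    show _ = Cfsg.reflectionMatrix (⇑Q) w *ᵥ y
    rw [Refl.mulVec_eq, show P.ρ g y = y + c • w by rw [hc, hN]; abel, QuadraticMap.polar_comm (⇑Q) w y,
      sub_eq_add_neg, ← neg_smul,
      show c = -((Q w)⁻¹ * QuadraticMap.polar (⇑Q) y w) by field_simp; linear_combination hc']
  have hrv : ∀ a, Refl.mat Q (Refl.refl Q w hQw) *ᵥ P.vec a = P.vec a := fun a => by
    refine Refl.fix Q w _ ?_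
    rw [← hβ]; exact P.W_vec hwW a
  have heq : g.1 = Refl.refl Q w hQw := by
    refine Refl.ext_mulVec Q fun y => ?_
    rw [← hρ]
    refine sub_eq_zero.1 (P.eq_zero_of_beta (fun a => ?_) fun v hv => ?_)
    · have h1 : P.β (P.ρ g y) (P.vec a) = P.β y (P.vec a) := by
        conv_lhs => rw [← hfix a]
        exact P.map g y (P.vec a)
      have h2 : P.β (Refl.mat Q (Refl.refl Q w hQw) *ᵥ y) (P.vec a) = P.β y (P.vec a) := by
        conv_lhs => rw [← hrv a]
        rw [hβ]; exact polar_mat Q _ _ _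
      rw [P.sub_left, h1, h2, sub_self]
    · have hv' : P.W (P.ρ g⁻¹ v) := P.mono_W (inv_mem hgm) hv
      have h1 : P.β (P.ρ g y) v = P.β y (P.ρ g⁻¹ v) := P.map_inv_left g y v
      have h2 : P.β (Refl.mat Q (Refl.refl Q w hQw) *ᵥ y) v = P.β y (P.ρ g⁻¹ v) := by
        conv_lhs => rw [← P.ρ_self_inv g v, hval _ hv']
        rw [hβ]; exact polar_mat Q _ _ _
      rw [P.sub_left, h1, h2, sub_self]
  have hd : Refl.dickson Q hQ g.1 = 1 := Abelianization.commutator_subset_ker (Refl.dickson Q hQ) g.2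
  rw [heq, Refl.dickson_refl] at hd
  exact absurd hd (by decide)

omit [DecidableEq ι] in
theorem odd_frame {m : ℕ} (x : Unit ⊕ (Fin m ⊕ Fin m) → F) (i : Fin m) :
    QuadraticMap.polar (⇑(Refl.oddForm m F)) x (Pi.single (Sum.inr (Sum.inl i)) 1) = x (Sum.inr (Sum.inr i)) ∧
      QuadraticMap.polar (⇑(Refl.oddForm m F)) x (Pi.single (Sum.inr (Sum.inr i)) 1) = x (Sum.inr (Sum.inl i)) := by
  constructor <;>
    simp [QuadraticMap.polar, Refl.oddForm_coe, Cfsg.quadFormOdd, Pi.single_apply, mul_add, add_mul,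
      Finset.sum_add_distrib]

/-- The Steinberg character of `PΩ` in odd dimension at least five. -/
theorem stData_omega_odd {F : Type u} [Field F] [Fintype F] (p : ℕ) [Fact p.Prime] [CharP F p]
    (hodd : Odd (Fintype.card F)) {m : ℕ} (hm : 2 ≤ m) : StData p (Cfsg.POmega F (Cfsg.quadFormOdd m F)) := by
  rw [← Refl.oddForm_coe]
  have h2 := Refl.two_ne_zero_of_odd hodd
  set Q := Refl.oddForm m F with hQdef
  have hW : ∀ x, (∀ i, QuadraticMap.polar (⇑Q) x (Pi.single (Sum.inr (Sum.inl i)) 1) = 0 ∧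
      QuadraticMap.polar (⇑Q) x (Pi.single (Sum.inr (Sum.inr i)) 1) = 0) →
      ∀ j, x (Sum.inr j) = 0 := by
    intro x hx j
    rcases j with j | j
    · rw [← (odd_frame x j).2]; exact (hx j).2
    · rw [← (odd_frame x j).1]; exact (hx j).1
  refine (orthPolar Q (Refl.oddForm_nondegenerate h2 m) (by simp; omega)
    (fun i => Pi.single (Sum.inr (Sum.inl i)) 1) (fun i => Pi.single (Sum.inr (Sum.inr i)) 1)
    (fun i => by simp [hQdef, Refl.oddForm_coe, Cfsg.quadFormOdd, Pi.single_apply])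
    (fun i => by simp [hQdef, Refl.oddForm_coe, Cfsg.quadFormOdd, Pi.single_apply])
    (fun i j => by rw [(odd_frame _ j).1]; simp)
    (fun i j => by rw [(odd_frame _ j).2]; simp)
    (fun i j => by rw [(odd_frame _ j).2]; simp [Pi.single_apply, eq_comm])
    (fun x hx hxx => ?_) False (fun h => h.elim) (fun h => h.elim)
    (fun _ => ⟨Pi.single (Sum.inl ()) 1, fun i => ⟨by rw [(odd_frame _ i).1]; simp, by rw [(odd_frame _ i).2]; simp⟩,
      by simp [hQdef, Refl.oddForm_coe, Cfsg.quadFormOdd]⟩) (fun h => h.elim) (by omega)).stData p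
    (Polar.mid_of_line _ p (w₀ := Pi.single (Sum.inl ()) 1) fun w hw => ⟨w (Sum.inl ()), ?_⟩)
  · funext j
    rcases j with j | j
    · simp only [hQdef, Refl.oddForm_coe, Cfsg.quadFormOdd, hW x hx, mul_zero, Finset.sum_const_zero,
        add_zero] at hxx
      exact pow_eq_zero_iff two_ne_zero |>.1 hxx
    · exact hW x hx j
  · funext j
    rcases j with j | j
    · simp
    · simp [hW w hw j]

omit [DecidableEq ι] in
theorem plus_frame {m : ℕ} (x : Fin m ⊕ Fin m → F) (i : Fin m) :
    QuadraticMap.polar (⇑(HypQuad.plusForm m F)) x (Pi.single (Sum.inl i) 1) = x (Sum.inr i) ∧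
      QuadraticMap.polar (⇑(HypQuad.plusForm m F)) x (Pi.single (Sum.inr i) 1) = x (Sum.inl i) := by
  constructor <;>
    simp [QuadraticMap.polar, HypQuad.plusForm_apply, Cfsg.quadFormPlus, Pi.single_apply, mul_add, add_mul,
      Finset.sum_add_distrib]

/-- The Steinberg character of `PΩ⁺` in dimension at least six. -/
theorem stData_omega_plus {F : Type u} [Field F] [Fintype F] (p : ℕ) [Fact p.Prime] [CharP F p]
    {m : ℕ} (hm : 3 ≤ m) : StData p (Cfsg.POmega F (Cfsg.quadFormPlus m F)) := by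
  rw [show Cfsg.quadFormPlus m F = ⇑(HypQuad.plusForm m F) from (funext (HypQuad.plusForm_apply m)).symm]
  set Q := HypQuad.plusForm m F with hQdef
  have hQ : (QuadraticMap.polarBilin Q).Nondegenerate := HypQuad.plusForm_nondegenerate m
  have he : ∀ i : Fin m, Q (Pi.single (Sum.inl i) 1) = 0 := fun i => by
    simp [hQdef, HypQuad.plusForm_apply, Cfsg.quadFormPlus, Pi.single_apply]
  have hee : ∀ i j : Fin m, QuadraticMap.polar (⇑Q) (Pi.single (Sum.inl i) 1) (Pi.single (Sum.inl j) 1) = 0 :=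
    fun i j => by rw [(plus_frame _ j).1]; simp
  have hef : ∀ i j : Fin m, QuadraticMap.polar (⇑Q) (Pi.single (Sum.inl i) 1) (Pi.single (Sum.inr j) 1) =
      if i = j then 1 else 0 := fun i j => by rw [(plus_frame _ j).2]; simp [Pi.single_apply, eq_comm]
  have hW : ∀ x, (∀ i, QuadraticMap.polar (⇑Q) x (Pi.single (Sum.inl i) 1) = 0 ∧
      QuadraticMap.polar (⇑Q) x (Pi.single (Sum.inr i) 1) = 0) → x = 0 := by
    intro x hx
    funext j
    rcases j with j | j
    · rw [← (plus_frame x j).2]; exact (hx j).2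
    · rw [← (plus_frame x j).1]; exact (hx j).1
  refine (orthPolar Q hQ (by simp; omega)
    (fun i => Pi.single (Sum.inl i) 1) (fun i => Pi.single (Sum.inr i) 1) he
    (fun i => by simp [hQdef, HypQuad.plusForm_apply, Cfsg.quadFormPlus, Pi.single_apply])
    hee (fun i j => by rw [(plus_frame _ j).2]; simp) hef
    (fun x hx _ => hW x hx) True (fun _ => by omega) (fun _ => hW) (fun h => absurd trivial h)
    (fun _ g hgΩ hg i _ => last_of_parity Q hQ (by simp; omega) _ (fun i => Pi.single (Sum.inr i) 1) he hee hef g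
      hgΩ hg i) (by omega)).stData p
    (Polar.mid_of_line _ p (w₀ := 0) fun w hw => ⟨0, ?_⟩)
  rw [zero_smul]; exact (hW w hw).symm

omit [DecidableEq ι] in
theorem minus_frame {m : ℕ} (a b : F) (x : (Fin m ⊕ Fin m) ⊕ Fin 2 → F) (i : Fin m) :
    QuadraticMap.polar (⇑(Refl.minusForm m F a b)) x (Pi.single (Sum.inl (Sum.inl i)) 1) =
        x (Sum.inl (Sum.inr i)) ∧
      QuadraticMap.polar (⇑(Refl.minusForm m F a b)) x (Pi.single (Sum.inl (Sum.inr i)) 1) =
        x (Sum.inl (Sum.inl i)) := by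
  constructor <;>
    simp [QuadraticMap.polar, Refl.minusForm_coe, Cfsg.quadFormMinus, Pi.single_apply, mul_add, add_mul,
      Finset.sum_add_distrib]

/-- The Steinberg character of `PΩ⁻` in dimension at least six. -/
theorem stData_omega_minus {F : Type u} [Field F] [Fintype F] (p : ℕ) [Fact p.Prime] [CharP F p]
    {m : ℕ} (hm : 2 ≤ m) {a b : F}
    (hab : ∀ z₁ z₂ : F, z₁ ^ 2 + a * z₁ * z₂ + b * z₂ ^ 2 = 0 → z₁ = 0 ∧ z₂ = 0) :
    StData p (Cfsg.POmega F (Cfsg.quadFormMinus m F a b)) := by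
  rw [← Refl.minusForm_coe]
  set Q := Refl.minusForm m F a b with hQdef
  have hQ : (QuadraticMap.polarBilin Q).Nondegenerate := Refl.minusForm_nondegenerate' m hab
  have hW : ∀ x, (∀ i, QuadraticMap.polar (⇑Q) x (Pi.single (Sum.inl (Sum.inl i)) 1) = 0 ∧
      QuadraticMap.polar (⇑Q) x (Pi.single (Sum.inl (Sum.inr i)) 1) = 0) →
      ∀ j, x (Sum.inl j) = 0 := by
    intro x hx j
    rcases j with j | j
    · rw [← (minus_frame a b x j).2]; exact (hx j).2
    · rw [← (minus_frame a b x j).1]; exact (hx j).1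
  have hani : ∀ x, (∀ i, QuadraticMap.polar (⇑Q) x (Pi.single (Sum.inl (Sum.inl i)) 1) = 0 ∧
      QuadraticMap.polar (⇑Q) x (Pi.single (Sum.inl (Sum.inr i)) 1) = 0) → Q x = 0 → x = 0 := by
    intro x hx hxx
    have h := hab (x (Sum.inr 0)) (x (Sum.inr 1)) (by
      simpa [hQdef, Refl.minusForm_coe, Cfsg.quadFormMinus, hW x hx] using hxx)
    funext j
    rcases j with j | j
    · exact hW x hx j
    · fin_cases j
      exacts [h.1, h.2]
  set P := orthPolar Q hQ (by simp; omega)
    (fun i => Pi.single (Sum.inl (Sum.inl i)) 1) (fun i => Pi.single (Sum.inl (Sum.inr i)) 1)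
    (fun i => by simp [hQdef, Refl.minusForm_coe, Cfsg.quadFormMinus, Pi.single_apply])
    (fun i => by simp [hQdef, Refl.minusForm_coe, Cfsg.quadFormMinus, Pi.single_apply])
    (fun i j => by rw [(minus_frame a b _ j).1]; simp)
    (fun i j => by rw [(minus_frame a b _ j).2]; simp)
    (fun i j => by rw [(minus_frame a b _ j).2]; simp [Pi.single_apply, eq_comm])
    hani False (fun h => h.elim) (fun h => h.elim)
    (fun _ => ⟨Pi.single (Sum.inr 0) 1,
      fun i => ⟨by rw [(minus_frame a b _ i).1]; simp, by rw [(minus_frame a b _ i).2]; simp⟩,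
      by simp [hQdef, Refl.minusForm_coe, Cfsg.quadFormMinus]⟩) (fun h => h.elim) (by omega) with hP
  refine P.stData p (mid_of_plane Q hQ P rfl (fun g y => Matrix.toLin'_apply _ y) p hani
    fun w u hw hu hw0 hne y hy => ?_)
  set d := w (Sum.inr 0) * u (Sum.inr 1) - w (Sum.inr 1) * u (Sum.inr 0) with hd
  have hext : ∀ s t : (Fin m ⊕ Fin m) ⊕ Fin 2 → F, (∀ j, s (Sum.inl j) = 0) → (∀ j, t (Sum.inl j) = 0) →
      s (Sum.inr 0) = t (Sum.inr 0) → s (Sum.inr 1) = t (Sum.inr 1) → s = t := by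
    intro s t hs ht h0 h1
    funext j
    rcases j with j | j
    · rw [hs, ht]
    · fin_cases j
      exacts [h0, h1]
  have hw' := hW w hw
  have hu' := hW u hu
  have hd0 : d ≠ 0 := by
    intro h
    by_cases h0 : w (Sum.inr 0) = 0
    · have h1 : w (Sum.inr 1) ≠ 0 := fun e => hw0 (hext w 0 hw' (fun j => rfl) h0 e)
      refine hne (u (Sum.inr 1) / w (Sum.inr 1)) (hext _ _ (fun j => by simp [hw' j]) hu' ?_ ?_)
      · rw [hd, h0, zero_mul, zero_sub, neg_eq_zero, mul_eq_zero] at h
        simp [h0, h.resolve_left h1]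
      · simp [h1]
    · refine hne (u (Sum.inr 0) / w (Sum.inr 0)) (hext _ _ (fun j => by simp [hw' j]) hu' (by simp [h0]) ?_)
      show u (Sum.inr 0) / w (Sum.inr 0) * w (Sum.inr 1) = u (Sum.inr 1)
      field_simp
      linear_combination -h
  refine ⟨(y (Sum.inr 0) * u (Sum.inr 1) - y (Sum.inr 1) * u (Sum.inr 0)) / d,
    (w (Sum.inr 0) * y (Sum.inr 1) - w (Sum.inr 1) * y (Sum.inr 0)) / d,
    hext _ _ (fun j => by simp [hw' j, hu' j]) (hW y hy) ?_ ?_⟩
  · simp only [Pi.add_apply, Pi.smul_apply, smul_eq_mul]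
    field_simp
    rw [hd]; ring
  · simp only [Pi.add_apply, Pi.smul_apply, smul_eq_mul]
    field_simp
    rw [hd]; ring

end Cfsg.Lib.PolarBN
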