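import Cfsg.Agent.Known.PolarBN.Symplectic
import Cfsg.Agent.Classical.Unitary.Simple
import Cfsg.Agent.Classical.Unitary.Matrix

/-! The polar space of a special unitary group, and its Steinberg character. -/

set_option autoImplicit false
set_option linter.style.haveILetI false

namespace Cfsg.Lib.PolarBN

open Cfsg.Lib.Classical

universe u v w

variable {F : Type u} [Field F]

/-- The vector on the `i`-th pair of coordinates. -/
noncomputable def pairV (n : ℕ) (r : F) (i : Fin (n / 2)) : Fin n → F :=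
  Pi.single ⟨2 * i.val, by omega⟩ 1 + Pi.single ⟨2 * i.val + 1, by omega⟩ r

theorem pairV_fst (n : ℕ) (r : F) (i j : Fin (n / 2)) :
    pairV n r i ⟨2 * j.val, by omega⟩ = if i = j then 1 else 0 := by
  by_cases h : i = j
  · subst h; simp [pairV, Pi.single_apply]
  · have := Fin.val_ne_of_ne h
    have h1 : ¬ 2 * j.val = 2 * i.val + 1 := by omega
    have h2 : ¬ 2 * j.val + 1 = 2 * i.val := by omega
    simp [pairV, Pi.single_apply, h1, h2, this.symm]
    exact fun e => absurd e h

theorem pairV_snd (n : ℕ) (r : F) (i j : Fin (n / 2)) :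
    pairV n r i ⟨2 * j.val + 1, by omega⟩ = if i = j then r else 0 := by
  by_cases h : i = j
  · subst h; simp [pairV, Pi.single_apply]
  · have := Fin.val_ne_of_ne h
    have h1 : ¬ 2 * j.val = 2 * i.val + 1 := by omega
    have h2 : ¬ 2 * j.val + 1 = 2 * i.val := by omega
    simp [pairV, Pi.single_apply, h1, h2, this.symm]
    exact fun e => absurd e h

section Frame

variable [Fintype F] {q : ℕ} (hF : Fintype.card F = q ^ 2) (n : ℕ)

theorem stdHerm_single (x : Fin n → F) (a : Fin n) (r : F) :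
    (stdHerm n hF).h x (Pi.single a r) = x a * (stdHerm n hF).σ r := by
  show ∑ i, x i * powConj hF ((Pi.single a r : Fin n → F) i) = x a * powConj hF r
  rw [Finset.sum_eq_single a (fun i _ hi => by rw [Pi.single_eq_of_ne hi, map_zero, mul_zero])
    (fun h => absurd (Finset.mem_univ a) h), Pi.single_eq_same]

theorem h_pairV (x : Fin n → F) (r : F) (i : Fin (n / 2)) :
    (stdHerm n hF).h x (pairV n r i) =
      x ⟨2 * i.val, by omega⟩ + x ⟨2 * i.val + 1, by omega⟩ * (stdHerm n hF).σ r := by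
  rw [pairV, (stdHerm n hF).add_right, stdHerm_single, stdHerm_single, map_one, mul_one]

theorem h_pairV_pairV (r s : F) (i j : Fin (n / 2)) :
    (stdHerm n hF).h (pairV n r i) (pairV n s j) = if i = j then 1 + r * (stdHerm n hF).σ s else 0 := by
  rw [h_pairV, pairV_fst, pairV_snd]
  split_ifs <;> simp

theorem exists_frame_data : ∃ θ z : F, θ * (stdHerm n hF).σ θ = -1 ∧ z * (stdHerm n hF).σ z = 1 ∧ z ≠ 1 := by
  set H := stdHerm n hF
  obtain ⟨θ, hθ⟩ := H.conj.norm_surjective (a := (-1 : F)) (by rw [map_neg, map_one])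
  obtain ⟨⟨z, hz⟩, hz2⟩ := H.exists_norm_ker_sq_ne_one
  refine ⟨θ, (z : F), hθ, ?_, fun e => hz2 (by simp [e])⟩
  have := congrArg Units.val (MonoidHom.mem_ker.mp hz)
  rwa [coe_normUnits, Units.val_one] at this

variable {n}

/-- A vector orthogonal to the frame vanishes on every pair of coordinates. -/
theorem pair_zero {θ z : F} (hθ : θ * (stdHerm n hF).σ θ = -1) (hz1 : z ≠ 1) (x : Fin n → F)
    (hx : ∀ i : Fin (n / 2), (stdHerm n hF).h x (pairV n θ i) = 0 ∧
      (stdHerm n hF).h x ((1 - z)⁻¹ • pairV n (θ * z) i) = 0)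
    (l : Fin n) (hl : l.val < 2 * (n / 2)) : x l = 0 := by
  have hne : (stdHerm n hF).σ θ * (1 - (stdHerm n hF).σ z) ≠ 0 := by
    refine mul_ne_zero (fun e => ?_) ?_
    · rw [e, mul_zero] at hθ; exact one_ne_zero (neg_eq_zero.1 hθ.symm)
    · rw [← map_one (stdHerm n hF).σ, ← map_sub, Ne, (stdHerm n hF).conj.eq_zero, sub_eq_zero]
      exact Ne.symm hz1
  obtain ⟨h1, h2⟩ := hx ⟨l.val / 2, by omega⟩
  rw [h_pairV] at h1
  rw [(stdHerm n hF).smul_right, mul_eq_zero, h_pairV, map_mul] at h2
  have h2' := h2.resolve_left (by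
    rw [(stdHerm n hF).conj.eq_zero, inv_eq_zero, sub_eq_zero]; exact Ne.symm hz1)
  have hb : x ⟨2 * (l.val / 2) + 1, by omega⟩ = 0 := by
    refine (mul_eq_zero.1 (?_ : x ⟨2 * (l.val / 2) + 1, by omega⟩ *
      ((stdHerm n hF).σ θ * (1 - (stdHerm n hF).σ z)) = 0)).resolve_right hne
    linear_combination h1 - h2'
  rcases Nat.even_or_odd' l.val with ⟨j, hj | hj⟩
  · rw [show l = ⟨2 * (l.val / 2), by omega⟩ from Fin.ext (by show l.val = 2 * (l.val / 2); omega)]
    rwa [hb, zero_mul, add_zero] at h1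
  · rw [show l = ⟨2 * (l.val / 2) + 1, by omega⟩ from Fin.ext (by show l.val = 2 * (l.val / 2) + 1; omega)]
    exact hb

/-- The Hermitian polar space on the standard space. -/
noncomputable def suPolar (hn : 2 ≤ n) (θ z : F) (hθ : θ * (stdHerm n hF).σ θ = -1)
    (hz : z * (stdHerm n hF).σ z = 1) (hz1 : z ≠ 1) :
    Polar (stdHerm n hF).SIsom F (Fin n → F) (n / 2) where
  ρ :=
    { toFun := fun g => (g.1.1 : (Fin n → F) ≃ₗ[F] (Fin n → F)).toLinearMap
      map_one' := rfl
      map_mul' := fun _ _ => rfl }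
  inj g h e := Subtype.ext ((stdHerm n hF).isom_ext fun x => LinearMap.congr_fun e x)
  σ := (stdHerm n hF).σ
  σσ := (stdHerm n hF).conj.invol
  ε := 1
  ε_sq := one_mul 1
  σε := map_one _
  β := (stdHerm n hF).h
  add_left := (stdHerm n hF).add_left
  smul_left := (stdHerm n hF).smul_left
  symm x y := by rw [one_mul]; exact (stdHerm n hF).symm y x
  nd x hx := (stdHerm n hF).nondeg x fun y => (stdHerm n hF).eq_zero_symm (hx y)
  map g x y := (stdHerm n hF).map_form g.1 x y
  Sing x := (stdHerm n hF).h x x = 0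
  sing_smul c x hx := by rw [(stdHerm n hF).smul_left, (stdHerm n hF).smul_right, hx, mul_zero, mul_zero]
  sing_add x y hx hy hxy := by
    rw [(stdHerm n hF).add_left, (stdHerm n hF).add_right, (stdHerm n hF).add_right, hx, hy, hxy,
      (stdHerm n hF).eq_zero_symm hxy]
    ring
  sing_map g x hx := by
    show (stdHerm n hF).h (g.1.1 x) (g.1.1 x) = 0
    rw [(stdHerm n hF).map_form g.1, hx]
  sing_self _ hx := hx
  par z a := a + (stdHerm n hF).σ a = -(stdHerm n hF).h z z
  par_ex z := by
    obtain ⟨t, ht⟩ := (stdHerm n hF).conj.exists_trace_one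
    refine ⟨t * -(stdHerm n hF).h z z, ?_⟩
    rw [map_mul, map_neg, (stdHerm n hF).self_fixed, ← add_mul, ht, one_mul]
  par_smul c z a h := by
    rw [(stdHerm n hF).smul_left, (stdHerm n hF).smul_right, (stdHerm n hF).conj.invol, map_mul, map_mul,
      (stdHerm n hF).conj.invol]
    linear_combination (c * (stdHerm n hF).σ c) * h
  par_map g z a h := by
    show a + (stdHerm n hF).σ a = -(stdHerm n hF).h (g.1.1 z) (g.1.1 z)
    rw [(stdHerm n hF).map_form g.1, h]
  par_zero_iff z := by
    rw [map_zero, add_zero]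
    exact ⟨fun h => neg_eq_zero.1 h.symm, fun h => by rw [h, neg_zero]⟩
  par_of x y z c hx hy hxy hzx hzy h := by
    have hyx : (stdHerm n hF).h y x = 1 := by rw [(stdHerm n hF).symm, hxy, map_one]
    simp only [(stdHerm n hF).add_left, (stdHerm n hF).add_right, (stdHerm n hF).smul_left,
      (stdHerm n hF).smul_right, hx, hy, hxy, hyx, hzx, hzy, (stdHerm n hF).eq_zero_symm hzx,
      (stdHerm n hF).eq_zero_symm hzy] at h
    simp only [one_smul, one_mul]
    linear_combination h
  sieg x w a hx hwx ha := by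
    have ha' : a + (stdHerm n hF).σ a = -(stdHerm n hF).h w w := ha
    refine ⟨⟨(stdHerm n hF).siegel hx hwx ha', (stdHerm n hF).siegel_mem_SIsom _ _ _⟩, fun y => ?_⟩
    rw [one_mul]
    exact (stdHerm n hF).siegel_apply hx hwx ha' y
  e := pairV n θ
  f i := (1 - z)⁻¹ • pairV n (θ * z) i
  e_sing i := by rw [h_pairV_pairV, if_pos rfl, hθ]; ring
  f_sing i := by
    rw [(stdHerm n hF).smul_left, (stdHerm n hF).smul_right, h_pairV_pairV, if_pos rfl, map_mul,
      show 1 + θ * z * ((stdHerm n hF).σ θ * (stdHerm n hF).σ z) = 1 + (θ * (stdHerm n hF).σ θ) * (z * (stdHerm n hF).σ z) by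
        ring, hθ, hz]
    ring
  ee i j := by rw [h_pairV_pairV]; split_ifs <;> [(rw [hθ]; ring); rfl]
  ff i j := by
    rw [(stdHerm n hF).smul_left, (stdHerm n hF).smul_right, h_pairV_pairV]
    split_ifs
    · rw [map_mul,
        show 1 + θ * z * ((stdHerm n hF).σ θ * (stdHerm n hF).σ z) =
          1 + (θ * (stdHerm n hF).σ θ) * (z * (stdHerm n hF).σ z) by ring, hθ, hz]
      ring
    · ring
  ef i j := by
    rw [(stdHerm n hF).smul_right, h_pairV_pairV]
    split_ifs
    · rw [map_inv₀, map_sub, map_one, map_mul, ← mul_assoc θ, hθ]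
      have hne : (1 : F) - (stdHerm n hF).σ z ≠ 0 := by
        rw [← map_one (stdHerm n hF).σ, ← map_sub, Ne, (stdHerm n hF).conj.eq_zero, sub_eq_zero]
        exact Ne.symm hz1
      field_simp
      ring
    · ring
  aniso x hx hxx := by
    funext k
    by_cases hk : k.val < 2 * (n / 2)
    · exact pair_zero hF hθ hz1 x hx k hk
    · have hsum : (stdHerm n hF).h x x = x k * (stdHerm n hF).σ (x k) := by
        show ∑ l, x l * powConj hF (x l) = x k * powConj hF (x k)
        refine Finset.sum_eq_single k (fun l _ hl => ?_) (fun h => absurd (Finset.mem_univ k) h)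
        have hl' := Fin.val_ne_of_ne hl
        rw [pair_zero hF hθ hz1 x hx l (by omega), zero_mul]
      rw [hsum, mul_eq_zero, (stdHerm n hF).conj.eq_zero, or_self] at hxx
      exact hxx
  D := False
  two h := h.elim
  noMid h := h.elim
  noPar h := h.elim
  short _ := by
    obtain ⟨c, hc0, hc⟩ := (stdHerm n hF).conj.exists_skew
    exact ⟨0, fun i => ⟨(stdHerm n hF).zero_left _, (stdHerm n hF).zero_left _⟩, c, hc0,
      by rw [(stdHerm n hF).zero_left, neg_zero]; exact hc⟩
  last h := h.elim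
  pos := by omega

end Frame

/-- The Steinberg character of `PSU`. -/
theorem stData_psu [Fintype F] (p : ℕ) [Fact p.Prime] [CharP F p] {n q : ℕ} (hn : 2 ≤ n)
    (hF : Fintype.card F = q ^ 2) : StData p (Cfsg.PSU n F q) := by
  haveI : Finite ((Fin n → F) ≃ₗ[F] (Fin n → F)) :=
    Finite.of_injective (fun e => (e : (Fin n → F) → (Fin n → F))) DFunLike.coe_injective
  obtain ⟨θ, z, hθ, hz, hz1⟩ := exists_frame_data hF n
  set P := suPolar hF hn θ z hθ hz hz1 with hP
  refine StData.center_congr (suEquiv n hF) (P.stData p (P.mid_of_line p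
    (w₀ := Pi.single ⟨n - 1, by omega⟩ 1) fun w hw => ⟨w ⟨n - 1, by omega⟩, ?_⟩))
  have hz' := pair_zero hF hθ hz1 w hw
  funext l
  by_cases hl : l.val < 2 * (n / 2)
  · rw [hz' l hl]
    by_cases hl' : l = ⟨n - 1, by omega⟩
    · have := hz' l hl; rw [hl'] at this ⊢; simp [this]
    · simp [hl']
  · have hl' : l = ⟨n - 1, by omega⟩ := Fin.ext (by show l.val = n - 1; omega)
    rw [hl']; simp

end Cfsg.Lib.PolarBN
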