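import Cfsg.Agent.Steinberg.Vanish
import Cfsg.Agent.Chars.IrrTools
import Cfsg.Agent.Chars.Construct
import Cfsg.Agent.Chars.Equivalence
import Cfsg.Agent.BN.Basic

/-!
# Steinberg characters, abstractly

Existence of an irreducible character that restricts to the regular character of a Sylow subgroup, and the
passage from a split Tits system to a central quotient.
-/

set_option autoImplicit false
set_option linter.style.haveILetI false

namespace Cfsg.Lib.PolarBN

open Cfsg.Lib.BN

universe u v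

/-- `G` has an irreducible character restricting to the regular one on Sylow `p`-subgroups. -/
def StData (p : ℕ) (G : Type u) [Group G] : Prop :=
  ∃ χ : G → ℂ, Cfsg.IsIrrCharacter G χ ∧
    ∀ P : Sylow p G, χ 1 = Nat.card P ∧ ∀ x : G, x ∈ P → x ≠ 1 → χ x = 0

variable {G : Type u} [Group G] [Finite G] {H : Type v} [Group H] [Finite H] {p : ℕ} [Fact p.Prime]

theorem card_sylow_eq_of_factorization (P : Sylow p G) (Q : Sylow p H)
    (h : (Nat.card G).factorization p = (Nat.card H).factorization p) : Nat.card P = Nat.card Q := by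
  rw [P.card_eq_multiplicity, Q.card_eq_multiplicity, h]

theorem StData.of_surj {f : G →* H} (hf : Function.Surjective f) (hk : ¬ p ∣ Nat.card f.ker)
    (h : StData p H) : StData p G := by
  obtain ⟨χ, hirr, hχ⟩ := h
  refine ⟨fun x => χ (f x), Cfsg.Lib.Chars.IsIrrCharacter.comp_surjective hirr f hf, fun P => ?_⟩
  obtain ⟨Q, hQ⟩ := IsPGroup.exists_le_sylow (P.2.map f)
  constructor
  · show χ (f 1) = _
    rw [map_one, (hχ Q).1, card_sylow_eq_of_factorization P Q]
    have hcard := Subgroup.card_eq_card_quotient_mul_card_subgroup f.ker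
    rw [Nat.card_congr (QuotientGroup.quotientKerEquivOfSurjective f hf).toEquiv] at hcard
    rw [hcard, Nat.factorization_mul Nat.card_pos.ne' Nat.card_pos.ne', Finsupp.add_apply,
      Nat.factorization_eq_zero_of_not_dvd hk, add_zero]
  · intro x hx hx1
    refine (hχ Q).2 (f x) (hQ (Subgroup.mem_map_of_mem f hx)) fun he => hx1 ?_
    have hxk : x ∈ f.ker := he
    obtain ⟨k, hk'⟩ := IsPGroup.iff_orderOf.1 P.2 ⟨x, hx⟩
    rw [← Subgroup.orderOf_coe] at hk'
    rcases k with _ | k
    · exact orderOf_eq_one_iff.1 (by simpa using hk')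
    · refine absurd ?_ hk
      calc p ∣ p ^ (k + 1) := dvd_pow_self p k.succ_ne_zero
        _ = orderOf (⟨x, hxk⟩ : f.ker) := by rw [← Subgroup.orderOf_coe]; exact hk'.symm
        _ ∣ Nat.card f.ker := orderOf_dvd_natCard _

theorem StData.of_equiv (e : G ≃* H) (h : StData p H) : StData p G := by
  refine h.of_surj (f := e.toMonoidHom) e.surjective ?_
  rw [(MonoidHom.ker_eq_bot_iff _).2 e.injective, Subgroup.card_bot]
  exact (Fact.out : p.Prime).not_dvd_one

theorem StData.prod (hG : StData p G) (hH : StData p H) : StData p (G × H) := by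
  obtain ⟨φ, hφ, hφ'⟩ := hG
  obtain ⟨ψ, hψ, hψ'⟩ := hH
  refine ⟨fun x => φ x.1 * ψ x.2, Cfsg.Lib.Chars.isIrrCharacter_prod hφ hψ, fun P => ?_⟩
  obtain ⟨Q, hQ⟩ := IsPGroup.exists_le_sylow (P.2.map (MonoidHom.fst G H))
  obtain ⟨R, hR⟩ := IsPGroup.exists_le_sylow (P.2.map (MonoidHom.snd G H))
  constructor
  · show φ 1 * ψ 1 = _
    rw [(hφ' Q).1, (hψ' R).1, Q.card_eq_multiplicity, R.card_eq_multiplicity, P.card_eq_multiplicity,
      Nat.card_prod, Nat.factorization_mul Nat.card_pos.ne' Nat.card_pos.ne', Finsupp.add_apply, pow_add]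
    push_cast
    ring
  · intro x hx hx1
    by_cases h1 : x.1 = 1
    · show φ x.1 * ψ x.2 = 0
      rw [(hψ' R).2 x.2 (hR ⟨x, hx, rfl⟩) fun h2 => hx1 (Prod.ext h1 h2), mul_zero]
    · show φ x.1 * ψ x.2 = 0
      rw [(hφ' Q).2 x.1 (hQ ⟨x, hx, rfl⟩) h1, zero_mul]

omit [Fact p.Prime] in
/-- A group of order prime to `p` has the trivial character. -/
theorem StData.of_coprime (hp : p.Prime) (h : ¬ p ∣ Nat.card G) : StData p G := by
  refine ⟨fun _ => 1, Cfsg.Lib.Chars.isIrrCharacter_one, fun P => ?_⟩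
  have := Fact.mk hp
  have hP : Nat.card P = 1 := by
    rw [P.card_eq_multiplicity, Nat.factorization_eq_zero_of_not_dvd h, pow_zero]
  refine ⟨by simp [hP], fun x hx hx1 => absurd ?_ hx1⟩
  have := (Nat.card_eq_one_iff_unique.1 hP).1
  exact congrArg Subtype.val (Subsingleton.elim (⟨x, hx⟩ : P) 1)

/-- Elements centralising a Tits system lie in `B`. -/
theorem center_le_B (P : Cfsg.BNPair G) : Subgroup.center G ≤ P.B := by
  intro z hz
  obtain ⟨n, hn, hzn⟩ := bruhat (P := P) z
  obtain ⟨b, hb, b', hb', rfl⟩ := mem_dc.1 hzn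
  have hc : ∀ g, g * (b * n * b') = b * n * b' * g := fun g => Subgroup.mem_center_iff.1 hz g
  have hnn : ∀ x ∈ P.B, n * x * n⁻¹ ∈ P.B := by
    intro x hx
    have h := hc (b'⁻¹ * x * b')
    have e : n * x * n⁻¹ = b⁻¹ * ((b'⁻¹ * x * b') * (b * n * b') * (b * n * b')⁻¹) * b := by
      rw [h]; group
    rw [e, mul_inv_cancel_right]
    exact mul_mem (mul_mem (inv_mem hb) (mul_mem (mul_mem (inv_mem hb') hx) hb')) hb
  have hnB : n ∈ P.B := by
    have h1 := mem_sup_conj (P := P) hn
    refine (sup_le le_rfl ?_ : P.B ⊔ _ ≤ P.B) h1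
    rintro _ ⟨x, hx, rfl⟩
    exact hnn x hx
  exact mul_mem (mul_mem hb hnB) hb'

/-- The Steinberg character of a split Tits system descends to central quotients inside `B ∩ N`. -/
theorem StData.of_bn {P : Cfsg.BNPair G} {U : Subgroup G} (hs : Cfsg.Lib.Steinberg.Split P U p)
    (ho : Cfsg.Lib.Steinberg.Opp P U) (Z : Subgroup G) [Z.Normal] (hZc : Z ≤ Subgroup.center G)
    (hZ : Z ≤ P.B ⊓ P.N) : StData p (G ⧸ Z) := by
  classical
  set π := QuotientGroup.mk' Z
  have hirr := Cfsg.Lib.Steinberg.isIrr_st hs ho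
  have hcst : ∀ z ∈ π.ker, Cfsg.Lib.Steinberg.st P z = Cfsg.Lib.Steinberg.st P 1 := by
    intro z hz
    rw [QuotientGroup.ker_mk'] at hz
    refine Finset.sum_congr rfl fun K _ => ?_
    congr 1
    unfold Cfsg.fixedPointCharacter
    congr 1
    apply Nat.card_congr
    refine Equiv.subtypeEquivRight fun x => ?_
    induction x using QuotientGroup.induction_on with
    | _ y =>
      simp only [MulAction.mem_fixedBy, one_smul, iff_true]
      show (QuotientGroup.mk (z * y) : G ⧸ P.parabolic (K : Set _)) = QuotientGroup.mk y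
      rw [← Subgroup.mem_center_iff.1 (hZc hz) y, QuotientGroup.mk_mul_of_mem]
      exact Subgroup.mem_sup_left (hZ hz).1
  obtain ⟨χ, hχ, hfac⟩ := Cfsg.Lib.Chars.exists_factor π (QuotientGroup.mk'_surjective _)
    (Cfsg.Lib.Chars.isCharacter_of_irr hirr) hcst
  refine ⟨χ, Cfsg.Lib.Chars.IsIrrCharacter.descend hχ π (QuotientGroup.mk'_surjective _) (hfac ▸ hirr), fun S => ?_⟩
  have hZp : ¬ p ∣ Nat.card Z := fun hd => hs.coprime (hd.trans (Subgroup.card_dvd_of_le hZ))
  have hcardP : Nat.card S = Nat.card U := by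
    rw [S.card_eq_multiplicity, ← Cfsg.Lib.Steinberg.factorization_eq hs]
    congr 1
    rw [Subgroup.card_eq_card_quotient_mul_card_subgroup Z,
      Nat.factorization_mul Nat.card_pos.ne' Nat.card_pos.ne', Finsupp.add_apply,
      Nat.factorization_eq_zero_of_not_dvd hZp, add_zero]
  constructor
  · rw [hcardP, ← Cfsg.Lib.Steinberg.st_one hs ho, hfac]
    simp [π]
  · intro x hx hx1
    obtain ⟨g, rfl⟩ := QuotientGroup.mk_surjective x
    have h2 : p ∣ orderOf (π g) := by
      obtain ⟨k, hk⟩ := IsPGroup.iff_orderOf.1 S.2 ⟨π g, hx⟩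
      rw [← Subgroup.orderOf_coe] at hk
      rcases k with _ | k
      · exact absurd (orderOf_eq_one_iff.1 (by rw [hk, pow_zero]) : π g = 1) hx1
      · exact hk ▸ dvd_pow_self p k.succ_ne_zero
    have h0 := Cfsg.Lib.Steinberg.st_eq_zero hs ho (h2.trans (orderOf_map_dvd π g))
    rw [hfac] at h0
    exact h0

/-- Central quotients of isomorphic groups. -/
theorem StData.center_congr (e : G ≃* H) (h : StData p (G ⧸ Subgroup.center G)) :
    StData p (H ⧸ Subgroup.center H) := by
  have hc : (Subgroup.center H).map (e.symm : H →* G) = Subgroup.center G := by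
    ext x
    rw [Subgroup.map_equiv_eq_comap_symm]
    simp only [Subgroup.mem_comap, MulEquiv.symm_symm, MonoidHom.coe_coe, Subgroup.mem_center_iff]
    exact ⟨fun h y => e.injective (by rw [map_mul, map_mul]; exact h (e y)),
      fun h y => by
        have := congrArg e (h (e.symm y))
        rwa [map_mul, map_mul, MulEquiv.apply_symm_apply] at this⟩
  exact h.of_equiv (QuotientGroup.congr (Subgroup.center H) (Subgroup.center G) e.symm hc)

end Cfsg.Lib.PolarBN
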