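import Cfsg.Agent.Known.PolarBN.Pair
import Cfsg.Agent.Known.PolarBN.StData

/-!
# The Tits system of a polar space is split
-/

set_option autoImplicit false
set_option linter.style.haveILetI false

namespace Cfsg.Lib.PolarBN

universe u v w

variable {G : Type w} [Group G] [Finite G] {F : Type u} [Field F] {V : Type v} [AddCommGroup V] [Module F V]
variable {m : ℕ}

namespace Polar

variable (P : Polar G F V m)
include P

theorem exists_uni_step {g : G} (hg : g ∈ P.bor) :
    ∀ i : ℕ, i ≤ m → ∃ u ∈ P.uni, ∀ a : Fin m × Bool, a.1.val < i → P.ρ (u * g) (P.vec a) ∈ P.ln a := by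
  intro i
  induction i with
  | zero => exact fun _ => ⟨1, one_mem _, fun a ha => absurd ha (Nat.not_lt_zero _)⟩
  | succ i ih =>
    intro hi
    obtain ⟨u, hu, hu'⟩ := ih (by omega)
    set g' := u * g
    have hg'B : g' ∈ P.bor := mul_mem (P.uni_le_bor hu) hg
    let li : Fin m := ⟨i, by omega⟩
    set v := P.ρ g' (P.f li) with hv
    have hvd : ∀ d : Fin m × Bool, d.1.val < i → P.β v (P.vec d) = 0 := by
      intro d hd
      obtain ⟨r, hr0, hr⟩ := P.exists_scalar (hu' d hd)
      have h := P.map g' (P.f li) (P.vec d)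
      rw [hr, P.smul_right, show P.f li = P.vec (li, false) from rfl, P.beta_vec_ne (a := (li, false)) (b := d)
        (fun e => by rw [e] at hd; exact lt_irrefl _ hd)] at h
      refine (mul_eq_zero.1 h).resolve_left fun e => hr0 ?_
      have := congrArg P.σ e
      rwa [P.σσ, map_zero] at this
    have hve : P.β v (P.e li) ≠ 0 := by
      intro h0
      have h1 := P.bor_perp (inv_mem hg'B) (k := i + 1) (x := v) (fun l hl => by
        rcases (Nat.lt_succ_iff.1 hl).lt_or_eq with hl | hl
        · exact hvd (l, true) hl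
        · rw [show l = li from Fin.ext hl]; exact h0) li (Nat.lt_succ_self _)
      rw [hv, P.ρ_inv_self, P.fe, if_pos rfl] at h1
      exact P.ε_ne h1
    obtain ⟨x, z, a, dd, hdd, hxf, hx, -, hz⟩ := P.exists_move (P.e_sing li) (P.f_sing li)
      (by rw [P.ef, if_pos rfl]) (P.sing_map _ _ (P.f_sing li)) hve
    have hzd : ∀ d : Fin m × Bool, d.1.val < i → P.β z (P.vec d) = 0 := by
      intro d hd
      clear hx hxf
      induction hz using Submodule.span_induction with
      | mem y hy =>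
        simp only [Set.mem_insert_iff, Set.mem_singleton_iff] at hy
        rcases hy with e | e | e <;> subst e
        · exact P.beta_vec_ne (a := (li, true)) fun e => by rw [e] at hd; exact lt_irrefl _ hd
        · exact P.beta_vec_ne (a := (li, false)) fun e => by rw [e] at hd; exact lt_irrefl _ hd
        · exact hvd d hd
      | zero => exact P.zero_left _
      | add p q _ _ hp hq => rw [P.add_left, hp, hq, add_zero]
      | smul r p _ hp => rw [P.smul_left, hp, mul_zero]
    have hxU : x ∈ P.uni := hx.mem_uni (P := P) fun j hj => hzd (j, true) hj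
    have hfix : ∀ d : Fin m × Bool, d.1.val < i → P.ρ x⁻¹ (P.vec d) = P.vec d := by
      intro d hd
      have h : P.ρ x (P.vec d) = P.vec d := hx.apply_orth (P := P)
        (by rw [show P.e li = P.vec (li, true) from rfl, P.beta_vec_ne]; intro e
            have := congrArg (fun p : Fin m × Bool => p.1.val) e
            simp only [opp, li] at this
            omega)
        (P.symm_zero (hzd d hd))
      conv_lhs => rw [← h]
      exact P.ρ_inv_self _ _
    refine ⟨x⁻¹ * u, mul_mem (inv_mem hxU) hu, ?_⟩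
    set g'' := x⁻¹ * u * g with hg''
    have e'' : g'' = x⁻¹ * g' := mul_assoc _ _ _
    have hlow : ∀ d : Fin m × Bool, d.1.val < i → P.ρ g'' (P.vec d) ∈ P.ln d := fun d hd => by
      obtain ⟨r, -, hr⟩ := P.exists_scalar (hu' d hd)
      rw [e'', P.ρ_mul, hr, map_smul, hfix d hd]
      exact Submodule.smul_mem _ _ (P.vec_mem_ln d)
    have hf : P.ρ g'' (P.vec (li, false)) ∈ P.ln (li, false) := by
      have h := congrArg (P.ρ x⁻¹) hxf
      rw [P.ρ_inv_self, map_smul] at h
      rw [e'', P.ρ_mul, P.vec_false, show P.ρ x⁻¹ (P.ρ g' (P.f li)) = dd⁻¹ • P.f li by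
        rw [← hv, h, smul_smul, inv_mul_cancel₀ hdd, one_smul]]
      exact Submodule.smul_mem _ _ (P.vec_mem_ln (li, false))
    have he : P.ρ g'' (P.vec (li, true)) ∈ P.ln (li, true) := by
      have hB : g'' ∈ P.bor := e'' ▸ mul_mem (inv_mem (P.uni_le_bor hxU)) hg'B
      obtain ⟨h1, h2, h3⟩ := P.mem_Fl.1 (hB li)
      refine P.mem_ln_iff.2 ⟨fun b hb => ?_, h3⟩
      obtain ⟨l, s⟩ := b
      cases s
      · have hne : l ≠ li := fun e => hb (by rw [e]; rfl)
        rcases Nat.lt_or_ge l.val i with hl | hl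
        · obtain ⟨r, hr0, hr⟩ := P.exists_scalar (hlow (l, false) hl)
          have h := P.map g'' (P.vec (li, true)) (P.vec (l, false))
          rw [hr, P.smul_right, P.beta_vec_ne (a := (li, true)) (b := (l, false))
            (fun e => hne (congrArg Prod.fst e))] at h
          refine (mul_eq_zero.1 h).resolve_left fun e => hr0 ?_
          have := congrArg P.σ e
          rwa [P.σσ, map_zero] at this
        · exact h2 l (by have := Fin.val_ne_of_ne hne; show i + 1 ≤ l.val; simp only [li] at this; omega)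
      · exact h1 l
    intro d hd
    rcases (Nat.lt_succ_iff.1 hd).lt_or_eq with h | h
    · exact hlow d h
    · obtain ⟨l, s⟩ := d
      obtain rfl : l = li := Fin.ext h
      cases s
      exacts [hf, he]

theorem bor_decomp {g : G} (hg : g ∈ P.bor) : ∃ u ∈ P.uni, ∃ h ∈ P.tor, g = u * h := by
  obtain ⟨u, hu, h⟩ := P.exists_uni_step hg m le_rfl
  exact ⟨u⁻¹, inv_mem hu, u * g, fun a => h a a.1.isLt, by group⟩

theorem uni_sub_Fl {u : G} (hu : u ∈ P.uni) {k : ℕ} {y : V} (hy : y ∈ P.Fl (k + 1)) :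
    P.ρ u y - y ∈ P.Fl k := by
  rw [Fl] at hy
  induction hy using Submodule.span_induction with
  | mem y' hy' =>
    obtain ⟨⟨i, b⟩, ⟨hb, hi⟩, rfl⟩ := hy'
    simp only at hb hi
    subst hb
    exact P.Fl_mono (by omega) (hu.1 i)
  | zero => simp
  | add y z _ _ hy hz =>
    rw [map_add, show P.ρ u y + P.ρ u z - (y + z) = (P.ρ u y - y) + (P.ρ u z - z) by abel]
    exact add_mem hy hz
  | smul c y _ hy => rw [map_smul, ← smul_sub]; exact Submodule.smul_mem _ c hy

/-- An element of the unipotent part moves vectors orthogonal to the left half into it. -/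
theorem uni_perp {u : G} (hu : u ∈ P.uni) {y : V} (hy : ∀ i, P.β y (P.e i) = 0) : P.ρ u y - y ∈ P.Fl m := by
  set r := ∑ l, (P.β y (P.f l)) • P.e l with hr
  have hrm : r ∈ P.Fl m := Submodule.sum_mem _ fun l _ => Submodule.smul_mem _ _ (P.e_mem_Fl l.isLt)
  have hW : P.W (y - r) := by
    intro l
    rw [P.sub_left, P.sub_left, hr, P.sum_left, P.sum_left]
    simp [P.smul_left, P.ee, P.ef, hy l]
  have h1 := hu.2 _ hW
  rw [map_sub] at h1
  rw [show P.ρ u y - y = (P.ρ u y - P.ρ u r - (y - r)) + (P.ρ u r - r) by abel]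
  exact add_mem h1 (P.uni_sub_Fl hu (k := m) (P.Fl_mono (Nat.le_succ m) hrm))

theorem uni_normal {b : G} (hb : b ∈ P.bor) {u : G} (hu : u ∈ P.uni) : b * u * b⁻¹ ∈ P.uni := by
  refine ⟨fun i => ?_, fun x hx => ?_⟩
  · rw [P.ρ_mul, P.ρ_mul, show P.ρ b (P.ρ u (P.ρ b⁻¹ (P.e i))) - P.e i =
      P.ρ b (P.ρ u (P.ρ b⁻¹ (P.e i)) - P.ρ b⁻¹ (P.e i)) by rw [map_sub, P.ρ_self_inv]]
    exact P.bor_map hb (P.uni_sub_Fl hu (P.bor_map (inv_mem hb) (P.e_mem_Fl (Nat.lt_succ_self _))))
  · rw [P.ρ_mul, P.ρ_mul, show P.ρ b (P.ρ u (P.ρ b⁻¹ x)) - x =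
      P.ρ b (P.ρ u (P.ρ b⁻¹ x) - P.ρ b⁻¹ x) by rw [map_sub, P.ρ_self_inv]]
    exact P.bor_map hb (P.uni_perp hu fun i => P.bor_perp (inv_mem hb) (k := m) (fun j _ => (hx j).1) i i.isLt)

theorem uni_nilpotent {u : G} (hu : u ∈ P.uni) (y : V) :
    ((P.ρ u - 1 : Module.End F V) ^ (2 * m + 1)) y = 0 := by
  set N : Module.End F V := P.ρ u - 1 with hN
  have hNa : ∀ x, N x = P.ρ u x - x := fun x => rfl
  have step1 : ∀ k : ℕ, k ≤ m → ∀ i : Fin m, i.val < k → P.β ((N ^ k) y) (P.e i) = 0 := by
    intro k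
    induction k with
    | zero => exact fun _ i hi => absurd hi (Nat.not_lt_zero _)
    | succ k ih =>
      intro hk i hi
      rw [pow_succ', Module.End.mul_apply, hNa, P.sub_left, P.map_inv_left]
      have hd : ∀ z ∈ P.Fl i.val, P.β ((N ^ k) y) z = 0 := by
        intro z hz
        rw [Fl] at hz
        induction hz using Submodule.span_induction with
        | mem z' hz' =>
          obtain ⟨⟨j, b⟩, ⟨hb, hj⟩, rfl⟩ := hz'
          simp only at hb hj
          subst hb
          exact ih (by omega) j (by omega)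
        | zero => exact P.zero_right _
        | add p q _ _ hp hq => rw [P.add_right, hp, hq, add_zero]
        | smul c p _ hp => rw [P.smul_right, hp, mul_zero]
      rw [← sub_add_cancel (P.ρ u⁻¹ (P.e i)) (P.e i), P.add_right, hd _ ((inv_mem hu : u⁻¹ ∈ P.uni).1 i)]
      ring
  have step2 : ∀ k : ℕ, k ≤ m → (N ^ (m + 1 + k)) y ∈ P.Fl (m - k) := by
    intro k
    induction k with
    | zero =>
      intro _
      rw [add_zero, Nat.sub_zero, pow_succ', Module.End.mul_apply, hNa]
      exact P.uni_perp hu fun i => step1 m le_rfl i i.isLt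
    | succ k ih =>
      intro hk
      rw [← add_assoc, pow_succ', Module.End.mul_apply, hNa]
      refine P.uni_sub_Fl hu ?_
      rw [show m - (k + 1) + 1 = m - k by omega]
      exact ih (by omega)
  have := step2 m le_rfl
  rw [Nat.sub_self, P.Fl_zero, Submodule.mem_bot, show m + 1 + m = 2 * m + 1 by ring] at this
  exact this

theorem uni_isPGroup (p : ℕ) [Fact p.Prime] [CharP F p] : IsPGroup p P.uni := by
  haveI : Nontrivial V := ⟨⟨P.vec (⟨0, P.pos⟩, true), 0, P.vec_ne_zero _⟩⟩
  haveI : CharP (Module.End F V) p :=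
    charP_of_injective_algebraMap (FaithfulSMul.algebraMap_injective F (Module.End F V)) p
  rintro ⟨u, hu⟩
  refine ⟨2 * m + 1, Subtype.ext ?_⟩
  push_cast
  refine P.inj ?_
  rw [map_pow, map_one]
  have h0 : (P.ρ u - 1 : Module.End F V) ^ (2 * m + 1) = 0 := LinearMap.ext (P.uni_nilpotent hu)
  have h1 : (P.ρ u - 1 : Module.End F V) ^ p ^ (2 * m + 1) = 0 :=
    pow_eq_zero_of_le ((Nat.lt_pow_self (Fact.out : p.Prime).one_lt).le) h0
  have h2 := add_pow_char_pow_of_commute (R := Module.End F V) (p := p) (n := 2 * m + 1)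
    (Commute.one_right (P.ρ u - 1 : Module.End F V))
  rw [one_pow, h1, zero_add, sub_add_cancel] at h2
  exact h2

theorem fix_frame {g : G} (hB : ∀ a, P.ρ g (P.vec a) = P.vec a) (hW : ∀ w, P.W w → P.ρ g w = w) : g = 1 := by
  refine P.eq_one_of_fix fun y => ?_
  have h := P.eq_zero_of_beta (x := P.ρ g y - y) (fun a => ?_) fun w hw => ?_
  · exact sub_eq_zero.1 h
  · rw [P.sub_left, sub_eq_zero]
    conv_lhs => rw [← hB a]
    exact P.map g y _
  · rw [P.sub_left, sub_eq_zero]
    conv_lhs => rw [← hW w hw]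
    exact P.map g y w

theorem uni_inf_tor {u : G} (hu : u ∈ P.uni) (ht : u ∈ P.tor) : u = 1 := by
  have he : ∀ i, P.ρ u (P.e i) = P.e i := by
    intro i
    obtain ⟨c, hc⟩ := P.mem_ln.1 (ht (i, true))
    have h1 := (P.mem_Fl.1 (hu.1 i)).2.1 i le_rfl
    rw [show P.ρ u (P.e i) = c • P.e i from hc.symm, P.sub_left, P.smul_left, P.ef, if_pos rfl, mul_one,
      sub_eq_zero] at h1
    rw [show P.ρ u (P.e i) = c • P.e i from hc.symm, h1, one_smul]
  refine P.fix_frame ?_ fun w hw => ?_
  · rintro ⟨i, _ | _⟩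
    · obtain ⟨c, hc⟩ := P.mem_ln.1 (ht (i, false))
      have h2 : P.β (P.ρ u (P.f i)) (P.ρ u (P.e i)) = P.β (P.f i) (P.e i) := P.map u _ _
      rw [he, show P.ρ u (P.f i) = c • P.f i from hc.symm, P.smul_left, P.fe, if_pos rfl] at h2
      have : c = 1 := by linear_combination P.ε * h2 + (1 - c) * P.ε_sq
      rw [show P.ρ u (P.vec (i, false)) = c • P.vec (i, false) from hc.symm, this, one_smul]
    · exact he i
  · have h1 := hu.2 w hw
    have hW : P.W (P.ρ u w - w) := fun l => by
      have := P.mono_W (P.tor_le_mono ht) hw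
      exact ⟨by rw [P.sub_left, (this l).1, (hw l).1, sub_zero], by rw [P.sub_left, (this l).2, (hw l).2, sub_zero]⟩
    exact sub_eq_zero.1 (P.eq_zero_of_beta (P.W_vec hW) fun x hx => (P.mem_Fl.1 h1).2.2 x hx)

theorem split (p : ℕ) [Fact p.Prime] [CharP F p]
    (hmid : ∀ g, (∀ a, P.ρ g (P.vec a) = P.vec a) → g ^ p = 1 → g = 1) :
    Cfsg.Lib.Steinberg.Split P.pair P.uni p := by
  refine ⟨Fact.out, P.uni_le_bor, fun b hb u hu => P.uni_normal hb hu, fun b hb => ?_, P.uni_isPGroup p, ?_⟩
  · obtain ⟨u, hu, h, hh, e⟩ := P.bor_decomp hb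
    exact ⟨u, hu, h, P.bor_inf_nN.ge hh, e⟩
  · intro hd
    rw [show P.pair.B ⊓ P.pair.N = P.tor from P.bor_inf_nN] at hd
    obtain ⟨⟨t, ht⟩, hto⟩ := exists_prime_orderOf_dvd_card' p hd
    rw [← Subgroup.orderOf_coe] at hto
    have htp : t ^ p = 1 := hto ▸ pow_orderOf_eq_one t
    have : t = 1 := by
      refine hmid t (fun a => ?_) htp
      obtain ⟨c, -, hc⟩ := P.exists_scalar (ht a)
      have hpow : ∀ n : ℕ, P.ρ (t ^ n) (P.vec a) = c ^ n • P.vec a := by
        intro n
        induction n with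
        | zero => rw [pow_zero, P.ρ_one, pow_zero, one_smul]
        | succ n ih => rw [pow_succ, P.ρ_mul, hc, map_smul, ih, smul_smul, ← pow_succ']
      have h1 := hpow p
      rw [htp, P.ρ_one] at h1
      have hc1 : c ^ p = 1 := by
        by_contra h
        have h2 : (c ^ p - 1) • P.vec a = 0 := by rw [sub_smul, one_smul, ← h1, sub_self]
        exact P.vec_ne_zero a ((smul_eq_zero.1 h2).resolve_left (sub_ne_zero.2 h))
      have : c = 1 := by
        have h2 : (c - 1) ^ p = 0 := by rw [sub_pow_char, hc1, one_pow, sub_self]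
        exact sub_eq_zero.1 (pow_eq_zero_iff (Fact.out : p.Prime).ne_zero |>.1 h2)
      rw [hc, this, one_smul]
    simp only [this, orderOf_one] at hto
    exact (Fact.out : p.Prime).ne_one hto.symm

theorem opp_uni : Cfsg.Lib.Steinberg.Opp P.pair P.uni := by
  obtain ⟨w, hw, htop⟩ := Cfsg.Lib.Steinberg.exists_top (P := P.pair) (subset_refl P.pair.S)
  have hwN : w ∈ P.pair.N := Cfsg.Lib.Steinberg.closure_le_N (subset_refl _) hw
  refine ⟨w, hwN, fun u hu hB => P.uni_inf_tor hu (P.fixes_all_lines fun n hn => ?_)⟩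
  obtain ⟨m', hm', hc⟩ := Cfsg.Lib.Steinberg.exists_closure_cong (P := P.pair) hn
  exact Cfsg.Lib.Steinberg.conj_mem_of_cong hc.symm
    (Cfsg.Lib.Steinberg.top_fix (subset_refl P.pair.S) hw htop hm' (P.uni_le_bor hu) hB)

theorem center_le_tor : Subgroup.center G ≤ P.tor := by
  intro z hz
  refine P.fixes_all_lines fun n _ => ?_
  rw [show n⁻¹ * z * n = z by rw [mul_assoc, ← Subgroup.mem_center_iff.1 hz n, inv_mul_cancel_left]]
  exact center_le_B P.pair hz

/-- The Steinberg character of the central quotient. -/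
theorem stData (p : ℕ) [Fact p.Prime] [CharP F p]
    (hmid : ∀ g, (∀ a, P.ρ g (P.vec a) = P.vec a) → g ^ p = 1 → g = 1) :
    StData p (G ⧸ Subgroup.center G) :=
  StData.of_bn (P.split p hmid) P.opp_uni _ le_rfl fun _ hz => P.bor_inf_nN.ge (P.center_le_tor hz)

end Polar

end Cfsg.Lib.PolarBN
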