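import Mathlib

/-!
# Frames of polar spaces

An axiomatic setting shared by the symplectic, unitary and orthogonal groups: a group acting on a space with a
reflexive form, a frame of hyperbolic pairs with anisotropic orthogonal, and enough Siegel elements.
-/

set_option autoImplicit false

namespace Cfsg.Lib.PolarBN

universe u v w

/-- A group on a polar space with a frame of `m` hyperbolic pairs. `D` marks the hyperbolic orthogonal case. -/
structure Polar (G : Type w) [Group G] (F : Type u) [Field F] (V : Type v) [AddCommGroup V] [Module F V]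
    (m : ℕ) where
  ρ : G →* (V →ₗ[F] V)
  inj : Function.Injective ρ
  σ : F →+* F
  σσ : ∀ c, σ (σ c) = c
  ε : F
  ε_sq : ε * ε = 1
  σε : σ ε = ε
  β : V → V → F
  add_left : ∀ x y z, β (x + y) z = β x z + β y z
  smul_left : ∀ (c : F) x z, β (c • x) z = c * β x z
  symm : ∀ x y, β y x = ε * σ (β x y)
  nd : ∀ x, (∀ y, β x y = 0) → x = 0
  map : ∀ g x y, β (ρ g x) (ρ g y) = β x y
  Sing : V → Prop
  sing_smul : ∀ (c : F) x, Sing x → Sing (c • x)
  sing_add : ∀ x y, Sing x → Sing y → β x y = 0 → Sing (x + y)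
  sing_map : ∀ g x, Sing x → Sing (ρ g x)
  sing_self : ∀ x, Sing x → β x x = 0
  par : V → F → Prop
  par_ex : ∀ z, ∃ a, par z a
  par_smul : ∀ (c : F) z a, par z a → par (σ c • z) (c * σ c * a)
  par_map : ∀ g z a, par z a → par (ρ g z) a
  par_zero_iff : ∀ z, par z 0 ↔ Sing z
  par_of : ∀ x y z c, Sing x → Sing y → β x y = 1 → β z x = 0 → β z y = 0 → Sing (y + z + c • x) →
    par (ε • z) (ε * c)
  sieg : ∀ x z a, Sing x → β z x = 0 → par z a →
    ∃ g : G, ∀ y, ρ g y = y + β y x • z + (a * β y x - ε * β y z) • x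
  e : Fin m → V
  f : Fin m → V
  e_sing : ∀ i, Sing (e i)
  f_sing : ∀ i, Sing (f i)
  ee : ∀ i j, β (e i) (e j) = 0
  ff : ∀ i j, β (f i) (f j) = 0
  ef : ∀ i j, β (e i) (f j) = if i = j then 1 else 0
  aniso : ∀ x, (∀ i, β x (e i) = 0 ∧ β x (f i) = 0) → Sing x → x = 0
  D : Prop
  two : D → 2 ≤ m
  noMid : D → ∀ x, (∀ i, β x (e i) = 0 ∧ β x (f i) = 0) → x = 0
  noPar : D → ∀ a, par 0 a → a = 0
  short : ¬ D → ∃ z, (∀ i, β z (e i) = 0 ∧ β z (f i) = 0) ∧ ∃ a, a ≠ 0 ∧ par z a
  last : D → ∀ g, (∀ i : Fin m, i.val + 1 < m → ρ g (e i) ∈ Submodule.span F (e '' {j | j.val ≤ i.val})) →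
    ∀ i : Fin m, i.val + 1 = m → ρ g (e i) ∈ Submodule.span F (Set.range e)
  pos : 1 ≤ m

variable {G : Type w} [Group G] {F : Type u} [Field F] {V : Type v} [AddCommGroup V] [Module F V] {m : ℕ}

namespace Polar

variable (P : Polar G F V m)
include P

theorem ρ_mul (g h : G) (x : V) : P.ρ (g * h) x = P.ρ g (P.ρ h x) := by rw [map_mul]; rfl

theorem ρ_one (x : V) : P.ρ 1 x = x := by rw [map_one]; rfl

theorem ρ_inv_self (g : G) (x : V) : P.ρ g⁻¹ (P.ρ g x) = x := by
  rw [← P.ρ_mul, inv_mul_cancel, P.ρ_one]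

theorem ρ_self_inv (g : G) (x : V) : P.ρ g (P.ρ g⁻¹ x) = x := by
  rw [← P.ρ_mul, mul_inv_cancel, P.ρ_one]

theorem ρ_injective (g : G) : Function.Injective (P.ρ g) :=
  Function.LeftInverse.injective (P.ρ_inv_self g)

theorem ext {g h : G} (he : ∀ x, P.ρ g x = P.ρ h x) : g = h := P.inj (LinearMap.ext he)

theorem eq_one_of_fix {g : G} (he : ∀ x, P.ρ g x = x) : g = 1 := P.ext fun x => by rw [he, P.ρ_one]

theorem zero_left (x : V) : P.β 0 x = 0 := by
  rw [← zero_smul F (0 : V), P.smul_left, zero_mul]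

theorem symm_zero {x y : V} (h : P.β x y = 0) : P.β y x = 0 := by rw [P.symm, h, map_zero, mul_zero]

theorem zero_right (x : V) : P.β x 0 = 0 := P.symm_zero (P.zero_left x)

theorem neg_left (x y : V) : P.β (-x) y = -P.β x y := by
  rw [← neg_one_smul F x, P.smul_left, neg_one_mul]

theorem sub_left (x y z : V) : P.β (x - y) z = P.β x z - P.β y z := by
  rw [sub_eq_add_neg, P.add_left, P.neg_left, sub_eq_add_neg]

theorem add_right (x y z : V) : P.β x (y + z) = P.β x y + P.β x z := by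
  rw [P.symm, P.add_left, map_add, mul_add, ← P.symm, ← P.symm]

theorem smul_right (c : F) (x y : V) : P.β x (c • y) = P.σ c * P.β x y := by
  rw [P.symm, P.smul_left, map_mul, mul_left_comm, ← P.symm]

theorem sum_left {ι : Type*} (s : Finset ι) (g : ι → V) (y : V) :
    P.β (∑ i ∈ s, g i) y = ∑ i ∈ s, P.β (g i) y := by
  classical
  induction s using Finset.induction_on with
  | empty => simp [P.zero_left]
  | insert a s ha ih => rw [Finset.sum_insert ha, Finset.sum_insert ha, P.add_left, ih]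

theorem sum_right {ι : Type*} (s : Finset ι) (g : ι → V) (x : V) :
    P.β x (∑ i ∈ s, g i) = ∑ i ∈ s, P.β x (g i) := by
  classical
  induction s using Finset.induction_on with
  | empty => simp [P.zero_right]
  | insert a s ha ih => rw [Finset.sum_insert ha, Finset.sum_insert ha, P.add_right, ih]

theorem ε_ne : P.ε ≠ 0 := left_ne_zero_of_mul_eq_one P.ε_sq

theorem map_inv_left (g : G) (x y : V) : P.β (P.ρ g x) y = P.β x (P.ρ g⁻¹ y) := by
  rw [← P.map g x (P.ρ g⁻¹ y), P.ρ_self_inv]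

theorem sing_zero : P.Sing (0 : V) := by
  simpa using P.sing_smul 0 _ (P.e_sing ⟨0, P.pos⟩)

theorem par_zero : P.par 0 0 := (P.par_zero_iff 0).2 P.sing_zero

/-- A basis vector of the frame. -/
def vec (a : Fin m × Bool) : V := if a.2 then P.e a.1 else P.f a.1

omit P in
/-- The opposite index. -/
def opp (a : Fin m × Bool) : Fin m × Bool := (a.1, !a.2)

omit P in
theorem opp_opp (a : Fin m × Bool) : opp (opp a) = a := by simp [opp]

omit P in
theorem opp_ne (a : Fin m × Bool) : opp a ≠ a := by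
  rcases a with ⟨i, b⟩
  cases b <;> simp [opp]

theorem vec_true (i : Fin m) : P.vec (i, true) = P.e i := rfl

theorem vec_false (i : Fin m) : P.vec (i, false) = P.f i := rfl

theorem vec_sing (a : Fin m × Bool) : P.Sing (P.vec a) := by
  rcases a with ⟨i, _ | _⟩
  exacts [P.f_sing i, P.e_sing i]

/-- The value of the form on a pair of opposite frame vectors. -/
def sg (a : Fin m × Bool) : F := if a.2 then 1 else P.ε

theorem sg_ne (a : Fin m × Bool) : P.sg a ≠ 0 := by
  rcases a with ⟨i, _ | _⟩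
  exacts [P.ε_ne, one_ne_zero]

theorem fe (i j : Fin m) : P.β (P.f i) (P.e j) = if i = j then P.ε else 0 := by
  rw [P.symm, P.ef]
  by_cases h : i = j
  · subst h; simp
  · simp [h, Ne.symm h]

theorem beta_vec (a b : Fin m × Bool) : P.β (P.vec a) (P.vec b) = if b = opp a then P.sg a else 0 := by
  rcases a with ⟨i, _ | _⟩ <;> rcases b with ⟨j, _ | _⟩ <;>
    simp [vec, opp, sg, P.ee, P.ff, P.ef, P.fe, eq_comm]

theorem beta_vec_opp (a : Fin m × Bool) : P.β (P.vec a) (P.vec (opp a)) = P.sg a := by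
  rw [P.beta_vec, if_pos rfl]

theorem beta_vec_ne {a b : Fin m × Bool} (h : b ≠ opp a) : P.β (P.vec a) (P.vec b) = 0 := by
  rw [P.beta_vec, if_neg h]

theorem vec_ne_zero (a : Fin m × Bool) : P.vec a ≠ 0 := by
  intro h
  have := P.beta_vec_opp a
  rw [h, P.zero_left] at this
  exact P.sg_ne a this.symm

/-- The anisotropic middle: vectors orthogonal to the frame. -/
def W (x : V) : Prop := ∀ i, P.β x (P.e i) = 0 ∧ P.β x (P.f i) = 0

theorem W_vec {x : V} (hx : P.W x) (a : Fin m × Bool) : P.β x (P.vec a) = 0 := by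
  rcases a with ⟨i, _ | _⟩
  exacts [(hx i).2, (hx i).1]

theorem W_iff {x : V} : P.W x ↔ ∀ a, P.β x (P.vec a) = 0 :=
  ⟨P.W_vec, fun h i => ⟨h (i, true), h (i, false)⟩⟩

theorem W_zero : P.W 0 := fun i => ⟨P.zero_left _, P.zero_left _⟩

theorem W_vec' {x : V} (hx : P.W x) (a : Fin m × Bool) : P.β (P.vec a) x = 0 := P.symm_zero (P.W_vec hx a)

/-- Extensionality through the frame and the middle. -/
theorem eq_zero_of_beta {x : V} (h : ∀ a, P.β x (P.vec a) = 0) (hW : ∀ w, P.W w → P.β x w = 0) : x = 0 := by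
  refine P.nd x fun y => ?_
  set w := y - (∑ j, (P.β y (P.f j)) • P.e j + ∑ j, (P.ε * P.β y (P.e j)) • P.f j) with hw
  have hwW : P.W w := by
    intro i
    constructor
    · rw [hw, P.sub_left, P.add_left, P.sum_left, P.sum_left]
      simp only [P.smul_left, P.ee, P.fe, mul_zero, Finset.sum_const_zero, zero_add, mul_ite, Finset.sum_ite_eq',
        Finset.mem_univ, if_true]
      linear_combination (-P.β y (P.e i)) * P.ε_sq
    · rw [hw, P.sub_left, P.add_left, P.sum_left, P.sum_left]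
      simp only [P.smul_left, P.ef, P.ff, mul_zero, Finset.sum_const_zero, add_zero, mul_ite, mul_one,
        Finset.sum_ite_eq', Finset.mem_univ, if_true]
      ring
  have e : y = w + (∑ j, (P.β y (P.f j)) • P.e j + ∑ j, (P.ε * P.β y (P.e j)) • P.f j) := by rw [hw]; abel
  rw [e, P.add_right, hW w hwW, P.add_right, P.sum_right, P.sum_right]
  have h1 : ∀ j, P.β x (P.e j) = 0 := fun j => h (j, true)
  have h2 : ∀ j, P.β x (P.f j) = 0 := fun j => h (j, false)
  simp [P.smul_right, h1, h2]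

theorem mem_span_iff (A : Set (Fin m × Bool)) (x : V) :
    x ∈ Submodule.span F (P.vec '' A) ↔
      (∀ a ∉ A, P.β x (P.vec (opp a)) = 0) ∧ ∀ w, P.W w → P.β x w = 0 := by
  classical
  constructor
  · intro hx
    induction hx using Submodule.span_induction with
    | mem y hy =>
      obtain ⟨b, hb, rfl⟩ := hy
      refine ⟨fun a ha => P.beta_vec_ne fun h => ha ?_, fun w hw => P.W_vec' hw b⟩
      rwa [← opp_opp a, h, opp_opp]
    | zero => exact ⟨fun a _ => P.zero_left _, fun w _ => P.zero_left _⟩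
    | add y z _ _ hy hz =>
      exact ⟨fun a ha => by rw [P.add_left, hy.1 a ha, hz.1 a ha, add_zero],
        fun w hw => by rw [P.add_left, hy.2 w hw, hz.2 w hw, add_zero]⟩
    | smul c y _ hy =>
      exact ⟨fun a ha => by rw [P.smul_left, hy.1 a ha, mul_zero],
        fun w hw => by rw [P.smul_left, hy.2 w hw, mul_zero]⟩
  · rintro ⟨h1, h2⟩
    set z := ∑ a with a ∈ A, (P.β x (P.vec (opp a)) / P.sg a) • P.vec a
    have hz : x - z = 0 := by
      refine P.eq_zero_of_beta (fun b => ?_) fun w hw => ?_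
      · rw [P.sub_left, P.sum_left]
        simp only [P.smul_left, P.beta_vec, mul_ite, mul_zero]
        have hb : ∀ a, (b = opp a) ↔ a = opp b := fun a =>
          ⟨fun h => by rw [h, opp_opp], fun h => by rw [h, opp_opp]⟩
        simp only [hb, Finset.sum_ite_eq', Finset.mem_filter, Finset.mem_univ, true_and]
        split_ifs with h
        · rw [opp_opp, div_mul_cancel₀ _ (P.sg_ne _), sub_self]
        · rw [← opp_opp b, h1 _ h, sub_zero]
      · rw [P.sub_left, P.sum_left, h2 w hw]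
        simp [P.smul_left, P.W_vec' hw]
    rw [sub_eq_zero.1 hz]
    refine Submodule.sum_mem _ fun a ha => Submodule.smul_mem _ _ (Submodule.subset_span ⟨a, ?_, rfl⟩)
    exact (Finset.mem_filter.1 ha).2

/-- The flag: the span of the first `k` left vectors. -/
def Fl (k : ℕ) : Submodule F V := Submodule.span F (P.vec '' {a | a.2 = true ∧ a.1.val < k})

theorem mem_Fl {k : ℕ} {x : V} : x ∈ P.Fl k ↔
    (∀ i, P.β x (P.e i) = 0) ∧ (∀ i : Fin m, k ≤ i.val → P.β x (P.f i) = 0) ∧ ∀ w, P.W w → P.β x w = 0 := by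
  rw [Fl, P.mem_span_iff]
  constructor
  · rintro ⟨h1, h2⟩
    exact ⟨fun i => h1 (i, false) (fun h => by simp at h), fun i hi => h1 (i, true) (fun h => by simp at h; omega),
      h2⟩
  · rintro ⟨h1, h2, h3⟩
    refine ⟨fun a ha => ?_, h3⟩
    rcases a with ⟨i, _ | _⟩
    · exact h1 i
    · exact h2 i (by simp at ha; omega)

theorem Fl_mono {k l : ℕ} (h : k ≤ l) : P.Fl k ≤ P.Fl l := by
  refine Submodule.span_mono (Set.image_mono ?_)
  intro a ha
  exact ⟨ha.1, ha.2.trans_le h⟩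

theorem e_mem_Fl {i : Fin m} {k : ℕ} (h : i.val < k) : P.e i ∈ P.Fl k :=
  Submodule.subset_span ⟨(i, true), ⟨rfl, h⟩, rfl⟩

theorem Fl_zero : P.Fl 0 = ⊥ := by
  rw [Fl, show ({a : Fin m × Bool | a.2 = true ∧ a.1.val < 0}) = ∅ by ext a; simp]
  simp

/-- The line of a frame vector. -/
def ln (a : Fin m × Bool) : Submodule F V := Submodule.span F (P.vec '' {a})

theorem mem_ln {a : Fin m × Bool} {x : V} : x ∈ P.ln a ↔ ∃ c : F, c • P.vec a = x := by
  rw [ln, Set.image_singleton, Submodule.mem_span_singleton]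

theorem mem_ln_iff {a : Fin m × Bool} {x : V} :
    x ∈ P.ln a ↔ (∀ b, b ≠ opp a → P.β x (P.vec b) = 0) ∧ ∀ w, P.W w → P.β x w = 0 := by
  rw [ln, P.mem_span_iff]
  refine and_congr_left fun _ => ⟨fun h b hb => ?_, fun h b hb => h _ fun e => hb ?_⟩
  · rw [← opp_opp b]; exact h _ fun e => hb (by rw [Set.mem_singleton_iff] at e; rw [← e, opp_opp])
  · rw [Set.mem_singleton_iff, ← opp_opp b, e, opp_opp]

theorem vec_mem_ln (a : Fin m × Bool) : P.vec a ∈ P.ln a := P.mem_ln.2 ⟨1, one_smul _ _⟩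

theorem ln_unique {a b : Fin m × Bool} {x : V} (hx : x ≠ 0) (ha : x ∈ P.ln a) (hb : x ∈ P.ln b) : a = b := by
  obtain ⟨c, rfl⟩ := P.mem_ln.1 ha
  by_contra h
  have h1 := (P.mem_ln_iff.1 hb).1 (opp a) (fun e => h (by rw [← opp_opp a, e, opp_opp]))
  rw [P.smul_left, P.beta_vec_opp] at h1
  rcases mul_eq_zero.1 h1 with e | e
  · exact hx (by rw [e, zero_smul])
  · exact P.sg_ne a e

/-- The Siegel element attached to `x`, `z`, `a`. -/
def IsS (g : G) (x z : V) (a : F) : Prop :=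
  P.Sing x ∧ P.β z x = 0 ∧ P.par z a ∧ ∀ y, P.ρ g y = y + P.β y x • z + (a * P.β y x - P.ε * P.β y z) • x

theorem exists_IsS {x z : V} {a : F} (hx : P.Sing x) (hz : P.β z x = 0) (ha : P.par z a) :
    ∃ g, P.IsS g x z a := by
  obtain ⟨g, hg⟩ := P.sieg x z a hx hz ha
  exact ⟨g, hx, hz, ha, hg⟩

theorem IsS.apply_orth {g : G} {x z : V} {a : F} (h : P.IsS g x z a) {y : V} (h1 : P.β y x = 0)
    (h2 : P.β y z = 0) : P.ρ g y = y := by
  rw [h.2.2.2 y, h1, h2]; simp

theorem IsS.conj {g : G} {x z : V} {a : F} (h : P.IsS g x z a) (n : G) :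
    P.IsS (n * g * n⁻¹) (P.ρ n x) (P.ρ n z) a := by
  obtain ⟨h1, h2, h3, h4⟩ := h
  refine ⟨P.sing_map n x h1, by rw [P.map, h2], P.par_map n z a h3, fun y => ?_⟩
  rw [P.ρ_mul, P.ρ_mul, h4, map_add, map_add, map_smul, map_smul, P.ρ_self_inv]
  rw [← P.map n (P.ρ n⁻¹ y) x, ← P.map n (P.ρ n⁻¹ y) z, P.ρ_self_inv]

theorem IsS.scale {g : G} {x z : V} {a c : F} (h : P.IsS g (c • x) z a) (hc : c ≠ 0) :
    P.IsS g x (P.σ c • z) (c * P.σ c * a) := by
  obtain ⟨h1, h2, h3, h4⟩ := h
  refine ⟨?_, ?_, P.par_smul c z a h3, fun y => ?_⟩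
  · simpa [smul_smul, inv_mul_cancel₀ hc] using P.sing_smul c⁻¹ _ h1
  · rw [P.smul_right] at h2
    rw [P.smul_left, h2]
  · rw [h4, P.smul_right, P.smul_right, P.σσ, smul_smul, smul_smul]
    congr 1
    · congr 1; congr 1; ring
    · congr 1; ring

theorem IsS.swap {g : G} {x z : V} {t : F} (h : P.IsS g x (t • z) 0) (hz : P.Sing z) (ht : t ≠ 0) :
    P.IsS g z ((-(P.ε * P.σ t)) • x) 0 := by
  obtain ⟨h1, h2, -, h4⟩ := h
  have h2' : P.β z x = 0 := by
    rw [P.smul_left] at h2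
    exact (mul_eq_zero.1 h2).resolve_left ht
  refine ⟨hz, by rw [P.smul_left, P.symm_zero h2', mul_zero], (P.par_zero_iff _).2 (P.sing_smul _ _ h1),
    fun y => ?_⟩
  rw [h4, P.smul_right, P.smul_right, map_neg, map_mul, P.σε, P.σσ]
  have e1 : (0 * P.β y x - P.ε * (P.σ t * P.β y z)) = -(P.ε * P.σ t) * P.β y z := by ring
  have e2 : (0 * P.β y z - P.ε * (-(P.ε * t) * P.β y x)) = t * P.β y x := by
    linear_combination (t * P.β y x) * P.ε_sq
  rw [e1, e2, smul_smul, smul_smul, add_assoc, add_assoc, add_comm ((P.β y x * t) • z)]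
  congr 1
  congr 1
  · congr 1; ring
  · congr 1; ring

/-- Moving the partner of a singular vector by a Siegel element. -/
theorem exists_move {x y v : V} (hx : P.Sing x) (hy : P.Sing y) (hxy : P.β x y = 1) (hv : P.Sing v)
    (hvx : P.β v x ≠ 0) :
    ∃ (g : G) (z : V) (a d : F), d ≠ 0 ∧ P.ρ g y = d • v ∧ P.IsS g x z a ∧ P.β z y = 0 ∧
      z ∈ Submodule.span F {x, y, v} := by
  set d := P.ε / P.β v x with hd
  have hd0 : d ≠ 0 := div_ne_zero P.ε_ne hvx
  obtain ⟨v', hv'⟩ : ∃ v', v' = d • v := ⟨_, rfl⟩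
  have hvx' : P.β v' x = P.ε := by rw [hv', P.smul_left, hd, div_mul_cancel₀ _ hvx]
  have hyx : P.β y x = P.ε := by rw [P.symm, hxy, map_one, mul_one]
  have hxx := P.sing_self x hx
  have hyy := P.sing_self y hy
  set c := P.β v' y with hc
  set z := v' - y - c • x with hz
  have hzx : P.β z x = 0 := by
    rw [hz, P.sub_left, P.sub_left, P.smul_left, hvx', hyx, hxx, mul_zero, sub_self, sub_zero]
  have hzy : P.β z y = 0 := by
    rw [hz, P.sub_left, P.sub_left, P.smul_left, hyy, hxy, ← hc]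
    ring
  have hp := P.par_of x y z c hx hy hxy hzx hzy (by
    rw [show y + z + c • x = v' by rw [hz]; abel, hv']
    exact P.sing_smul d v hv)
  obtain ⟨g, hg⟩ := P.exists_IsS hx (show P.β (P.ε • z) x = 0 by rw [P.smul_left, hzx, mul_zero]) hp
  refine ⟨g, P.ε • z, P.ε * c, d, hd0, ?_, hg, by rw [P.smul_left, hzy, mul_zero], ?_⟩
  · rw [hg.2.2.2, hyx, P.smul_right, P.symm_zero hzy, mul_zero, mul_zero, sub_zero, smul_smul, P.ε_sq, one_smul,
      show P.ε * c * P.ε = c by linear_combination c * P.ε_sq, ← hv', hz]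
    abel
  · have m1 : x ∈ Submodule.span F {x, y, v} := Submodule.subset_span (by simp)
    have m2 : y ∈ Submodule.span F {x, y, v} := Submodule.subset_span (by simp)
    have m3 : v ∈ Submodule.span F {x, y, v} := Submodule.subset_span (by simp)
    exact Submodule.smul_mem _ _ (sub_mem (sub_mem (hv' ▸ Submodule.smul_mem _ d m3) m2) (Submodule.smul_mem _ _ m1))

end Polar

end Cfsg.Lib.PolarBN
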