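import Cfsg.Agent.Known.PolarBN.Basic

/-!
# The standard subgroups of a polar space

The flag stabiliser, its unipotent part, the monomial group and the torus; which Siegel elements are positive.
-/

set_option autoImplicit false

namespace Cfsg.Lib.PolarBN

universe u v w

variable {G : Type w} [Group G] [Finite G] {F : Type u} [Field F] {V : Type v} [AddCommGroup V] [Module F V]
variable {m : ℕ}

/-- A multiplicatively closed set containing one is a subgroup of a finite group. -/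
def finSubgroup (S : Set G) (h1 : (1 : G) ∈ S) (hm : ∀ a b, a ∈ S → b ∈ S → a * b ∈ S) : Subgroup G where
  carrier := S
  one_mem' := h1
  mul_mem' := @fun a b => hm a b
  inv_mem' {a} ha := by
    have hp : ∀ n : ℕ, a ^ n ∈ S := fun n => by
      induction n with
      | zero => rw [pow_zero]; exact h1
      | succ n ih => rw [pow_succ]; exact hm _ _ ih ha
    have h0 : 0 < orderOf a := orderOf_pos a
    have e : a⁻¹ = a ^ (orderOf a - 1) := by
      refine inv_eq_of_mul_eq_one_left ?_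
      rw [← pow_succ, Nat.sub_add_cancel h0, pow_orderOf_eq_one]
    rw [e]
    exact hp _

namespace Polar

variable (P : Polar G F V m)
include P

theorem Fl_map {g : G} (hg : ∀ i : Fin m, P.ρ g (P.e i) ∈ P.Fl (i.val + 1)) {k : ℕ} {x : V} (hx : x ∈ P.Fl k) :
    P.ρ g x ∈ P.Fl k := by
  rw [Fl] at hx
  induction hx using Submodule.span_induction with
  | mem y hy =>
    obtain ⟨⟨i, b⟩, ⟨hb, hi⟩, rfl⟩ := hy
    simp only at hb hi
    subst hb
    exact P.Fl_mono hi (hg i)
  | zero => rw [map_zero]; exact zero_mem _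
  | add y z _ _ hy hz => rw [map_add]; exact add_mem hy hz
  | smul c y _ hy => rw [map_smul]; exact Submodule.smul_mem _ c hy

/-- The flag stabiliser. -/
def bor : Subgroup G :=
  finSubgroup {g | ∀ i : Fin m, P.ρ g (P.e i) ∈ P.Fl (i.val + 1)}
    (fun i => by rw [P.ρ_one]; exact P.e_mem_Fl (Nat.lt_succ_self _))
    (fun a b ha hb i => by rw [P.ρ_mul]; exact P.Fl_map ha (hb i))

theorem mem_bor {g : G} : g ∈ P.bor ↔ ∀ i : Fin m, P.ρ g (P.e i) ∈ P.Fl (i.val + 1) := Iff.rfl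

theorem bor_map {g : G} (hg : g ∈ P.bor) {k : ℕ} {x : V} (hx : x ∈ P.Fl k) : P.ρ g x ∈ P.Fl k :=
  P.Fl_map hg hx

theorem bor_perp {g : G} (hg : g ∈ P.bor) {k : ℕ} {x : V} (hx : ∀ i : Fin m, i.val < k → P.β x (P.e i) = 0)
    (i : Fin m) (hi : i.val < k) : P.β (P.ρ g x) (P.e i) = 0 := by
  rw [P.map_inv_left]
  have h := P.bor_map (inv_mem hg) (P.e_mem_Fl hi)
  rw [Fl] at h
  generalize P.ρ g⁻¹ (P.e i) = y at h ⊢
  induction h using Submodule.span_induction with
  | mem y hy =>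
    obtain ⟨⟨j, b⟩, ⟨hb, hj⟩, rfl⟩ := hy
    simp only at hb hj
    subst hb
    exact hx j hj
  | zero => exact P.zero_right _
  | add y z _ _ hy hz => rw [P.add_right, hy, hz, add_zero]
  | smul c y _ hy => rw [P.smul_right, hy, mul_zero]

theorem bor_coeff_ne {g : G} (hg : g ∈ P.bor) (i : Fin m) : P.β (P.ρ g (P.e i)) (P.f i) ≠ 0 := by
  intro h0
  have h1 : P.ρ g (P.e i) ∈ P.Fl i.val := by
    obtain ⟨a1, a2, a3⟩ := P.mem_Fl.1 (hg i)
    refine P.mem_Fl.2 ⟨a1, fun j hj => ?_, a3⟩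
    by_cases e : j = i
    · rw [e]; exact h0
    · exact a2 j (by have := Fin.val_ne_of_ne e; omega)
  have h2 := P.bor_map (inv_mem hg) h1
  rw [P.ρ_inv_self] at h2
  have h3 := (P.mem_Fl.1 h2).2.1 i le_rfl
  rw [P.ef, if_pos rfl] at h3
  exact one_ne_zero h3

/-- Elements fixing every line of the frame. -/
def tor : Subgroup G :=
  finSubgroup {g | ∀ a, P.ρ g (P.vec a) ∈ P.ln a}
    (fun a => by rw [P.ρ_one]; exact P.vec_mem_ln a)
    (fun g h hg hh a => by
      obtain ⟨c, hc⟩ := P.mem_ln.1 (hh a)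
      rw [P.ρ_mul, ← hc, map_smul]
      exact Submodule.smul_mem _ _ (hg a))

theorem mem_tor {g : G} : g ∈ P.tor ↔ ∀ a, P.ρ g (P.vec a) ∈ P.ln a := Iff.rfl

/-- Elements permuting the lines of the frame. -/
def mono : Subgroup G :=
  finSubgroup {g | ∀ a, ∃ b, P.ρ g (P.vec a) ∈ P.ln b}
    (fun a => ⟨a, by rw [P.ρ_one]; exact P.vec_mem_ln a⟩)
    (fun g h hg hh a => by
      obtain ⟨b, hb⟩ := hh a
      obtain ⟨c, hc⟩ := P.mem_ln.1 hb
      obtain ⟨b', hb'⟩ := hg b
      exact ⟨b', by rw [P.ρ_mul, ← hc, map_smul]; exact Submodule.smul_mem _ _ hb'⟩)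

theorem mem_mono {g : G} : g ∈ P.mono ↔ ∀ a, ∃ b, P.ρ g (P.vec a) ∈ P.ln b := Iff.rfl

theorem tor_le_mono : P.tor ≤ P.mono := fun _ hg a => ⟨a, hg a⟩

theorem tor_le_bor : P.tor ≤ P.bor := by
  intro g hg i
  obtain ⟨c, hc⟩ := P.mem_ln.1 (hg (i, true))
  rw [show P.ρ g (P.e i) = c • P.e i from hc.symm]
  exact Submodule.smul_mem _ _ (P.e_mem_Fl (Nat.lt_succ_self _))

theorem exists_scalar {g : G} {a b : Fin m × Bool} (h : P.ρ g (P.vec a) ∈ P.ln b) :
    ∃ c : F, c ≠ 0 ∧ P.ρ g (P.vec a) = c • P.vec b := by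
  obtain ⟨c, hc⟩ := P.mem_ln.1 h
  refine ⟨c, fun e => ?_, hc.symm⟩
  rw [e, zero_smul] at hc
  exact P.vec_ne_zero a (P.ρ_injective g (by rw [map_zero, ← hc]))

theorem mono_opp {g : G} {a b : Fin m × Bool} (hg : g ∈ P.mono) (h : P.ρ g (P.vec a) ∈ P.ln b) :
    P.ρ g (P.vec (opp a)) ∈ P.ln (opp b) := by
  obtain ⟨d, hd⟩ := hg (opp a)
  obtain ⟨c, hc0, hc⟩ := P.exists_scalar h
  obtain ⟨c', hc0', hc'⟩ := P.exists_scalar hd
  suffices d = opp b by rwa [← this]
  by_contra hne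
  have h1 := P.map g (P.vec a) (P.vec (opp a))
  rw [hc, hc', P.smul_left, P.smul_right, P.beta_vec_opp, P.beta_vec_ne hne, mul_zero, mul_zero] at h1
  exact P.sg_ne a h1.symm

theorem mono_injective {g : G} {a a' b : Fin m × Bool} (h : P.ρ g (P.vec a) ∈ P.ln b)
    (h' : P.ρ g (P.vec a') ∈ P.ln b) : a = a' := by
  obtain ⟨c, hc0, hc⟩ := P.exists_scalar h
  obtain ⟨c', -, hc'⟩ := P.exists_scalar h'
  have e : P.ρ g ((c' / c) • P.vec a) = P.ρ g (P.vec a') := by
    rw [map_smul, hc, hc', smul_smul, div_mul_cancel₀ _ hc0]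
  have := P.ρ_injective g e
  refine P.ln_unique (P.vec_ne_zero a') ?_ (P.vec_mem_ln a')
  rw [← this]
  exact Submodule.smul_mem _ _ (P.vec_mem_ln a)

theorem mono_W {g : G} (hg : g ∈ P.mono) {x : V} (hx : P.W x) : P.W (P.ρ g x) := by
  refine P.W_iff.2 fun a => ?_
  obtain ⟨b, hb⟩ := (inv_mem hg : g⁻¹ ∈ P.mono) a
  obtain ⟨c, -, hc⟩ := P.exists_scalar hb
  rw [P.map_inv_left, hc, P.smul_right, P.W_vec hx, mul_zero]

theorem bor_inf_mono : P.bor ⊓ P.mono = P.tor := by
  refine le_antisymm ?_ (le_inf P.tor_le_bor P.tor_le_mono)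
  rintro g ⟨hB, hM⟩
  have key : ∀ k : ℕ, ∀ i : Fin m, i.val = k → P.ρ g (P.e i) ∈ P.ln (i, true) := by
    intro k
    induction k using Nat.strong_induction_on with
    | _ k ih =>
      intro i hi
      obtain ⟨⟨j, b⟩, hb⟩ := hM (i, true)
      obtain ⟨c, hc0, hc⟩ := P.exists_scalar hb
      rw [P.vec_true] at hc hb
      obtain ⟨a1, a2, -⟩ := P.mem_Fl.1 (hB i)
      rcases b with _ | _
      · exfalso
        have := a1 j
        rw [hc, P.smul_left, P.vec_false, P.fe, if_pos rfl] at this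
        exact (mul_ne_zero hc0 P.ε_ne) this
      · have hji : j.val ≤ i.val := by
          by_contra hlt
          have := a2 j (by omega)
          rw [hc, P.smul_left, P.vec_true, P.ef, if_pos rfl, mul_one] at this
          exact hc0 this
        rcases hji.lt_or_eq with hlt | heq
        · exfalso
          have h1 := ih j.val (hi ▸ hlt) j rfl
          have h2 := P.mono_injective (a := (j, true)) (a' := (i, true)) h1 hb
          rw [Prod.mk.injEq] at h2
          exact absurd (congrArg Fin.val h2.1) (by omega)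
        · obtain rfl : j = i := Fin.ext heq
          exact hb
  rintro ⟨i, _ | _⟩
  · have h1 : P.ρ g (P.vec (i, true)) ∈ P.ln (i, true) := by rw [P.vec_true]; exact key i.val i rfl
    have h2 := P.mono_opp hM h1
    simp only [opp, Bool.not_true] at h2
    exact h2
  · rw [P.vec_true]; exact key i.val i rfl

theorem tor_conj {n t : G} (hn : n ∈ P.mono) (ht : t ∈ P.tor) : n * t * n⁻¹ ∈ P.tor := by
  intro a
  obtain ⟨b, hb⟩ := (inv_mem hn : n⁻¹ ∈ P.mono) a
  obtain ⟨c, -, hc⟩ := P.exists_scalar hb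
  obtain ⟨d, -, hd⟩ := P.exists_scalar (ht b)
  rw [P.ρ_mul, P.ρ_mul, hc, map_smul, hd, smul_smul, map_smul]
  have e : P.ρ n (P.vec b) = c⁻¹ • P.vec a := by
    have h0 : c ≠ 0 := by
      intro e
      rw [e, zero_smul] at hc
      exact P.vec_ne_zero a (P.ρ_injective n⁻¹ (by rw [map_zero, hc]))
    have := congrArg (P.ρ n) hc
    rw [P.ρ_self_inv, map_smul] at this
    rw [this, smul_smul, inv_mul_cancel₀ h0, one_smul]
  rw [e]
  exact Submodule.smul_mem _ _ (Submodule.smul_mem _ _ (P.vec_mem_ln a))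

/-- The unipotent part of the flag stabiliser. -/
def uni : Subgroup G :=
  finSubgroup {g | (∀ i : Fin m, P.ρ g (P.e i) - P.e i ∈ P.Fl i.val) ∧ ∀ x, P.W x → P.ρ g x - x ∈ P.Fl m}
    ⟨fun i => by rw [P.ρ_one, sub_self]; exact zero_mem _, fun x _ => by rw [P.ρ_one, sub_self]; exact zero_mem _⟩
    (fun g h hg hh => by
      have hgB : ∀ i : Fin m, P.ρ g (P.e i) ∈ P.Fl (i.val + 1) := fun i => by
        rw [← sub_add_cancel (P.ρ g (P.e i)) (P.e i)]
        exact add_mem (P.Fl_mono (Nat.le_succ _) (hg.1 i)) (P.e_mem_Fl (Nat.lt_succ_self _))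
      refine ⟨fun i => ?_, fun x hx => ?_⟩
      · rw [P.ρ_mul, show P.ρ g (P.ρ h (P.e i)) - P.e i =
          P.ρ g (P.ρ h (P.e i) - P.e i) + (P.ρ g (P.e i) - P.e i) by rw [map_sub]; abel]
        exact add_mem (P.Fl_map hgB (hh.1 i)) (hg.1 i)
      · rw [P.ρ_mul, show P.ρ g (P.ρ h x) - x = P.ρ g (P.ρ h x - x) + (P.ρ g x - x) by rw [map_sub]; abel]
        exact add_mem (P.Fl_map hgB (hh.2 x hx)) (hg.2 x hx))

theorem mem_uni {g : G} : g ∈ P.uni ↔
    (∀ i : Fin m, P.ρ g (P.e i) - P.e i ∈ P.Fl i.val) ∧ ∀ x, P.W x → P.ρ g x - x ∈ P.Fl m := Iff.rfl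

theorem uni_le_bor : P.uni ≤ P.bor := by
  intro g hg i
  rw [← sub_add_cancel (P.ρ g (P.e i)) (P.e i)]
  exact add_mem (P.Fl_mono (Nat.le_succ _) (hg.1 i)) (P.e_mem_Fl (Nat.lt_succ_self _))

/-- A Siegel element at a left vector orthogonal to the lower flag is positive. -/
theorem IsS.mem_uni {g : G} {i : Fin m} {z : V} {a : F} (h : P.IsS g (P.e i) z a)
    (hz : ∀ j : Fin m, j.val < i.val → P.β z (P.e j) = 0) : g ∈ P.uni := by
  refine ⟨fun l => ?_, fun x hx => ?_⟩
  · rw [h.2.2.2, P.ee, zero_smul, mul_zero, zero_sub, add_zero, add_sub_cancel_left]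
    rcases lt_trichotomy l.val i.val with hl | hl | hl
    · rw [P.symm_zero (hz l hl), mul_zero, neg_zero, zero_smul]; exact zero_mem _
    · rw [Fin.ext hl, P.symm_zero h.2.1, mul_zero, neg_zero, zero_smul]; exact zero_mem _
    · exact Submodule.smul_mem _ _ (P.e_mem_Fl hl)
  · rw [h.2.2.2, (hx i).1, zero_smul, mul_zero, zero_sub, add_zero, add_sub_cancel_left]
    exact Submodule.smul_mem _ _ (P.e_mem_Fl i.isLt)

/-- The root elements of a pair of frame lines. -/
def IsR (g : G) (a b : Fin m × Bool) : Prop := ∃ t : F, P.IsS g (P.vec a) (t • P.vec b) 0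

theorem IsR.symm {g : G} {a b : Fin m × Bool} (h : P.IsR g a b) : P.IsR g b a := by
  obtain ⟨t, ht⟩ := h
  by_cases h0 : t = 0
  · refine ⟨0, P.vec_sing b, by rw [zero_smul, P.zero_left], by rw [zero_smul]; exact P.par_zero, fun y => ?_⟩
    rw [ht.2.2.2, h0]; simp [P.zero_right]
  · exact ⟨_, ht.swap (P := P) (P.vec_sing b) h0⟩

theorem IsR.mem_uni_of_left {g : G} {a b : Fin m × Bool} (h : P.IsR g a b) (ha : a.2 = true)
    (hb : b.2 = true ∨ a.1.val ≤ b.1.val) : g ∈ P.uni := by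
  obtain ⟨t, ht⟩ := h
  obtain ⟨i, s⟩ := a
  simp only at ha hb
  subst ha
  refine ht.mem_uni (P := P) fun j hj => ?_
  rw [P.smul_left, show P.e j = P.vec (j, true) from rfl, P.beta_vec_ne, mul_zero]
  intro e
  obtain ⟨k, s⟩ := b
  simp only [opp, Prod.mk.injEq] at e
  rcases hb with hb | hb
  · simp only at hb; subst hb; simp at e
  · have := congrArg Fin.val e.1; simp only at hb hj this; omega

/-- A root element is positive when the lower of its two indices is a left one. -/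
theorem IsR.mem_uni {g : G} {a b : Fin m × Bool} (h : P.IsR g a b)
    (hab : if a.1.val ≤ b.1.val then a.2 = true else b.2 = true) : g ∈ P.uni := by
  split_ifs at hab with hle
  · exact h.mem_uni_of_left (P := P) hab (Or.inr hle)
  · exact h.symm.mem_uni_of_left (P := P) hab (Or.inr (by omega))

theorem IsR.conj {g n : G} {a b : Fin m × Bool} (h : P.IsR g a b) {a' b' : Fin m × Bool}
    (ha : P.ρ n (P.vec a) ∈ P.ln a') (hb : P.ρ n (P.vec b) ∈ P.ln b') : P.IsR (n * g * n⁻¹) a' b' := by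
  obtain ⟨t, ht⟩ := h
  obtain ⟨c, hc0, hc⟩ := P.exists_scalar ha
  obtain ⟨d, -, hd⟩ := P.exists_scalar hb
  have := ht.conj (P := P) n
  rw [hc, map_smul, hd, smul_smul] at this
  have := this.scale (P := P) hc0
  rw [smul_smul, mul_zero] at this
  exact ⟨_, this⟩

/-- Under a monomial element one of two opposite root groups is positive. -/
theorem root_dichotomy {a b : Fin m × Bool} (hab : a.1 ≠ b.1) {n : G} (hn : n ∈ P.mono) :
    (∀ g, P.IsR g a b → n⁻¹ * g * n ∈ P.uni) ∨ (∀ g, P.IsR g (opp a) (opp b) → n⁻¹ * g * n ∈ P.uni) := by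
  obtain ⟨a', ha⟩ := (inv_mem hn : n⁻¹ ∈ P.mono) a
  obtain ⟨b', hb⟩ := (inv_mem hn : n⁻¹ ∈ P.mono) b
  have ha2 := P.mono_opp (inv_mem hn) ha
  have hb2 := P.mono_opp (inv_mem hn) hb
  by_cases hc : if a'.1.val ≤ b'.1.val then a'.2 = true else b'.2 = true
  · left
    intro g hg
    have := hg.conj (P := P) (n := n⁻¹) ha hb
    rw [inv_inv] at this
    exact this.mem_uni (P := P) hc
  · right
    intro g hg
    have := hg.conj (P := P) (n := n⁻¹) ha2 hb2
    rw [inv_inv] at this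
    refine this.mem_uni (P := P) ?_
    show if a'.1.val ≤ b'.1.val then (!a'.2) = true else (!b'.2) = true
    by_cases hle : a'.1.val ≤ b'.1.val
    · rw [if_pos hle] at hc ⊢
      simpa using hc
    · rw [if_neg hle] at hc ⊢
      simpa using hc

end Polar

end Cfsg.Lib.PolarBN
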