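import Cfsg.Agent.Known.PolarBN.Orthogonal
import Cfsg.Agent.Classical.Orth.Dihedral
import Cfsg.Agent.Classical.Orth.LowRankIso
import Cfsg.Agent.Classical.Orth.LowRankMinusFour
import Cfsg.Agent.S2544
import Cfsg.Agent.S2566

/-! The Steinberg characters of the orthogonal groups of dimension at most four. -/

set_option autoImplicit false
set_option linter.style.haveILetI false

namespace Cfsg.Lib.PolarBN

open Cfsg.Lib.Classical Matrix
open scoped commutatorElement

universe u v

theorem stData_psl_two {F : Type u} [Field F] [Fintype F] (p : ℕ) [Fact p.Prime] [CharP F p] :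
    StData p (Matrix.ProjectiveSpecialLinearGroup (Fin 2) F) :=
  Cfsg.Agent.S2544.result p 2 le_rfl

theorem card_commutator_dihedral (n : ℕ) [NeZero n] :
    Nat.card ↥(commutator (DihedralGroup n)) ∣ n := by
  let χ : DihedralGroup n →* ℤˣ :=
    { toFun := fun x => match x with
        | .r _ => 1
        | .sr _ => -1
      map_one' := rfl
      map_mul' := fun x y => by rcases x with i | i <;> rcases y with j | j <;> rfl }
  have h : commutator (DihedralGroup n) ≤ Subgroup.zpowers (DihedralGroup.r (1 : ZMod n)) := by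
    intro x hx
    have hx' : χ x = 1 := Abelianization.commutator_subset_ker χ hx
    rcases x with i | i
    · exact ⟨(i.val : ℤ), by simp⟩
    · exact absurd (show (-1 : ℤˣ) = 1 from hx') (by decide)
  have := Subgroup.card_dvd_of_le h
  rwa [Nat.card_zpowers, DihedralGroup.orderOf_r_one] at this

theorem stData_pomega_dihedral {F : Type u} [Field F] {ι : Type} [Fintype ι] [DecidableEq ι] [Finite F]
    (Q : (ι → F) → F) {n : ℕ} [NeZero n] (e : Cfsg.isometryGroup F Q ≃* DihedralGroup n) (p : ℕ) [Fact p.Prime]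
    (hpn : ¬ p ∣ n) : StData p (Cfsg.POmega F Q) := by
  refine StData.of_coprime Fact.out fun h => hpn ?_
  have h2 : Nat.card (Cfsg.Omega F Q) ∣ n := by
    rw [Nat.card_congr ((Cfsg.Omega F Q).equivMapOfInjective e.toMonoidHom e.injective).toEquiv,
      show (Cfsg.Omega F Q).map e.toMonoidHom = commutator (DihedralGroup n) by
        unfold Cfsg.Omega
        rw [commutator_def, commutator_def, Subgroup.map_commutator, Subgroup.map_top_of_surjective _ e.surjective]]
    exact card_commutator_dihedral n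
  exact h.trans ((Subgroup.card_quotient_dvd_card _).trans h2)

theorem char_not_dvd {F : Type u} [Field F] [Fintype F] (p : ℕ) [hp : Fact p.Prime] [CharP F p] :
    ¬ p ∣ Fintype.card F - 1 ∧ ¬ p ∣ Fintype.card F + 1 := by
  obtain ⟨n, hpp, hn⟩ := FiniteField.card F p
  have hd : p ∣ Fintype.card F := hn ▸ dvd_pow_self p n.ne_zero
  have h1 := Fintype.one_lt_card (α := F)
  constructor
  · intro h
    have h' := Nat.dvd_sub hd h
    rw [show Fintype.card F - (Fintype.card F - 1) = 1 by omega] at h'
    exact hp.out.not_dvd_one h'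
  · exact fun h => hp.out.not_dvd_one ((Nat.dvd_add_right hd).1 h)

section FourTwo

open Cfsg.Agent.S2566

/-- The orthogonal group of the hyperbolic form in dimension four over two elements. -/
abbrev O42 := ↥(Cfsg.isometryGroup (ZMod 2) (Cfsg.quadFormPlus 2 (ZMod 2)))

noncomputable def lHom : Equiv.Perm (Fin 3) →* O42 :=
  (MonoidHom.toHomUnits { toFun := lMat, map_one' := lMat_one, map_mul' := lMat_mul }).codRestrict _
    (fun a u _ => lMat_form a u)

noncomputable def rHom : Equiv.Perm (Fin 3) →* O42 :=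
  (MonoidHom.toHomUnits { toFun := rMat, map_one' := rMat_one, map_mul' := rMat_mul }).codRestrict _
    (fun a u _ => rMat_form a u)

noncomputable def tElt : O42 := ⟨⟨tMat, tMat, tMat_sq, tMat_sq⟩, fun u _ => tMat_form u⟩

/-- The base group. -/
noncomputable def pairHom : Equiv.Perm (Fin 3) × Equiv.Perm (Fin 3) →* O42 :=
  MonoidHom.noncommCoprod lHom rHom fun a b => Subtype.ext (Units.ext (comm_lr a b))

theorem pair_apply (a b : Equiv.Perm (Fin 3)) : pairHom (a, b) = lHom a * rHom b := rfl

theorem pairHom_injective : Function.Injective pairHom := by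
  rw [injective_iff_map_eq_one]
  rintro ⟨a, b⟩ hab
  rw [pair_apply] at hab
  have e : lHom a = rHom b⁻¹ := by rw [map_inv]; exact eq_inv_of_mul_eq_one_left hab
  obtain ⟨ha, hb⟩ := disjoint_lr a b⁻¹ (congrArg (Units.val ∘ Subtype.val) e)
  rw [inv_eq_one] at hb
  rw [ha, hb]; rfl

theorem t_sq : tElt * tElt = 1 := Subtype.ext (Units.ext tMat_sq)

theorem t_inv : tElt⁻¹ = tElt := inv_eq_of_mul_eq_one_left t_sq

theorem t_l (a : Equiv.Perm (Fin 3)) : tElt * lHom a * tElt⁻¹ = rHom a := Subtype.ext (Units.ext (tMat_conj a))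

theorem t_r (a : Equiv.Perm (Fin 3)) : tElt * rHom a * tElt⁻¹ = lHom a := by
  rw [← t_l, t_inv, ← mul_assoc, ← mul_assoc, t_sq, one_mul, mul_assoc, t_sq, mul_one]

theorem t_pair (a b : Equiv.Perm (Fin 3)) : tElt * pairHom (a, b) * tElt⁻¹ = pairHom (b, a) := by
  rw [pair_apply, pair_apply, ← (Commute.eq (show Commute (lHom b) (rHom a) from
    Subtype.ext (Units.ext (comm_lr b a)))).symm, ← t_l a, ← t_r b]
  group

theorem card_O42 : Nat.card O42 = 72 := Cfsg.Agent.S2566.result.1

theorem range_index : pairHom.range.index = 2 := by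
  have h := Subgroup.card_mul_index pairHom.range
  rw [← Nat.card_congr (MonoidHom.ofInjective pairHom_injective).toEquiv, card_O42, Nat.card_prod, Nat.card_perm,
    Nat.card_fin] at h
  simp only [Nat.factorial] at h
  omega

theorem tMat_not_mem : ∀ a b : Equiv.Perm (Fin 3), lMat a * rMat b ≠ tMat := by decide +kernel

theorem exists_form (x : O42) : ∃ k, x = pairHom k ∨ x = tElt * pairHom k := by
  have ht : tElt ∉ pairHom.range := by
    rintro ⟨⟨a, b⟩, h⟩
    exact tMat_not_mem a b (congrArg (Units.val ∘ Subtype.val) h)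
  by_cases hx : x ∈ pairHom.range
  · obtain ⟨k, rfl⟩ := hx; exact ⟨k, Or.inl rfl⟩
  · have := (Subgroup.mul_mem_iff_of_index_two range_index (a := tElt) (b := x)).2 (by simp [ht, hx])
    obtain ⟨k, hk⟩ := this
    exact ⟨k, Or.inr (by rw [hk, ← mul_assoc, t_sq, one_mul])⟩

/-- The sign of a pair. -/
noncomputable def pairSign : Equiv.Perm (Fin 3) × Equiv.Perm (Fin 3) →* ℤˣ :=
  (Equiv.Perm.sign.comp (MonoidHom.fst _ _)) * (Equiv.Perm.sign.comp (MonoidHom.snd _ _))

theorem pairSign_apply (a b : Equiv.Perm (Fin 3)) : pairSign (a, b) = Equiv.Perm.sign a * Equiv.Perm.sign b := rfl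

theorem omega42_le : commutator O42 ≤ pairSign.ker.map pairHom := by
  set N := pairSign.ker.map pairHom with hN
  haveI hnormal : N.Normal := by
    refine ⟨fun y hy x => ?_⟩
    obtain ⟨z, hz, rfl⟩ := hy
    obtain ⟨k, rfl | rfl⟩ := exists_form x
    · exact ⟨k * z * k⁻¹, (pairSign.normal_ker).conj_mem z hz k, by simp⟩
    · set z' := k * z * k⁻¹
      have hz' : z' ∈ pairSign.ker := (pairSign.normal_ker).conj_mem z hz k
      refine ⟨(z'.2, z'.1), ?_, ?_⟩
      · rw [SetLike.mem_coe, MonoidHom.mem_ker, pairSign_apply, mul_comm, ← pairSign_apply]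
        exact hz'
      · have e : tElt * pairHom k * pairHom z * (tElt * pairHom k)⁻¹ = tElt * pairHom z' * tElt⁻¹ := by
          simp only [z', map_mul, map_inv]
          group
        rw [e, ← t_pair z'.1 z'.2]
  have hker : Nat.card pairSign.ker = 18 := by
    have h := Subgroup.card_eq_card_quotient_mul_card_subgroup pairSign.ker
    rw [Nat.card_congr (QuotientGroup.quotientKerEquivOfSurjective pairSign ?_).toEquiv, Nat.card_prod,
      Nat.card_perm, Nat.card_fin, Nat.card_eq_fintype_card (α := ℤˣ), Fintype.card_units_int] at h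
    · rw [show Nat.factorial 3 = 6 from rfl] at h
      omega
    · intro u
      rcases Int.units_eq_one_or u with rfl | rfl
      · exact ⟨1, map_one _⟩
      · exact ⟨(Equiv.swap 0 1, 1), by rw [pairSign_apply]; simp⟩
  have hq : Nat.card (O42 ⧸ N) = 2 ^ 2 := by
    have h := Subgroup.card_eq_card_quotient_mul_card_subgroup N
    have h18 : Nat.card N = 18 := by
      rw [hN, ← Nat.card_congr (pairSign.ker.equivMapOfInjective pairHom pairHom_injective).toEquiv, hker]
    rw [card_O42, h18] at h
    omega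
  haveI : Fact (Nat.Prime 2) := ⟨Nat.prime_two⟩
  exact (Subgroup.Normal.quotient_commutative_iff_commutator_le).1
    ⟨⟨IsPGroup.commutative_of_card_eq_prime_sq hq⟩⟩

/-- The matrix of a permutation of the three nonzero vectors. -/
def planeM (a : Equiv.Perm (Fin 3)) : Matrix (Fin 2) (Fin 2) (ZMod 2) := Matrix.of (plane a)

theorem plane_det : ∀ a, (planeM a).det = 1 := by decide +kernel
theorem plane_mul : ∀ a b, planeM (a * b) = planeM a * planeM b := by decide +kernel
theorem plane_one : planeM 1 = 1 := by decide +kernel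
theorem plane_inj : ∀ a b, planeM a = planeM b → a = b := by decide +kernel

theorem zmod_two_sq : ∀ r : ZMod 2, r ^ 2 = 1 → r = 1 := by decide +kernel

theorem stData_perm_three : StData 2 (Equiv.Perm (Fin 3)) := by
  haveI : Fact (Nat.Prime 2) := ⟨Nat.prime_two⟩
  let g : Equiv.Perm (Fin 3) →* Matrix.SpecialLinearGroup (Fin 2) (ZMod 2) :=
    { toFun := fun a => ⟨planeM a, plane_det a⟩
      map_one' := Subtype.ext plane_one
      map_mul' := fun a b => Subtype.ext (plane_mul a b) }
  have hg : Function.Bijective g := by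
    refine (Nat.bijective_iff_injective_and_card g).2 ⟨fun a b h => plane_inj a b (congrArg Subtype.val h), ?_⟩
    rw [SLTwoTori.card_SL2, Nat.card_perm, Nat.card_fin]
    simp [Nat.factorial]
  refine StData.of_surj (f := (QuotientGroup.mk' (Subgroup.center (Matrix.SpecialLinearGroup (Fin 2) (ZMod 2)))).comp g)
    ((QuotientGroup.mk'_surjective _).comp hg.2) ?_ (stData_psl_two 2)
  rw [show MonoidHom.ker _ = ⊥ from ?_, Subgroup.card_bot]
  · decide
  rw [Subgroup.eq_bot_iff_forall]
  intro a ha
  rw [MonoidHom.mem_ker, MonoidHom.comp_apply, QuotientGroup.mk'_apply, QuotientGroup.eq_one_iff,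
    Matrix.SpecialLinearGroup.mem_center_iff] at ha
  obtain ⟨r, hr, hr'⟩ := ha
  refine hg.1 (Subtype.ext ?_)
  rw [map_one, ← hr']
  have : r = 1 := zmod_two_sq r (by simpa using hr)
  rw [this, map_one]; rfl

theorem stData_omega42 : StData 2 (Cfsg.POmega (ZMod 2) (Cfsg.quadFormPlus 2 (ZMod 2))) := by
  haveI : Fact (Nat.Prime 2) := ⟨Nat.prime_two⟩
  set Ω := commutator O42 with hΩ
  have hle : Ω ≤ pairHom.range := omega42_le.trans (Subgroup.map_le_range _ _)
  let inv : pairHom.range →* Equiv.Perm (Fin 3) × Equiv.Perm (Fin 3) :=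
    (MonoidHom.ofInjective pairHom_injective).symm.toMonoidHom
  have hinv : ∀ x : pairHom.range, pairHom (inv x) = x := fun x => by
    conv_rhs => rw [← (MonoidHom.ofInjective pairHom_injective).apply_symm_apply x]
    rfl
  let f : Ω →* Equiv.Perm (Fin 3) := (MonoidHom.fst _ _).comp (inv.comp (Subgroup.inclusion hle))
  have hsurj : Function.Surjective f := by
    intro a
    refine ⟨⟨⁅lHom a, tElt⁆, Subgroup.commutator_mem_commutator (Subgroup.mem_top _) (Subgroup.mem_top _)⟩, ?_⟩
    have e : ⁅lHom a, tElt⁆ = pairHom (a, a⁻¹) := by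
      rw [commutatorElement_def, pair_apply, map_inv, ← t_l a]
      group
    show (inv ⟨⁅lHom a, tElt⁆, _⟩).1 = a
    rw [show inv ⟨⁅lHom a, tElt⁆, _⟩ = (a, a⁻¹) from pairHom_injective (by rw [hinv]; exact e)]
  have hodd : ¬ 2 ∣ Nat.card f.ker := by
    intro h
    obtain ⟨x, hx⟩ := exists_prime_orderOf_dvd_card' 2 h
    have hx1 : x ^ 2 = 1 := by
      have := pow_orderOf_eq_one x
      rwa [hx] at this
    set k := inv (Subgroup.inclusion hle x.1) with hk
    have hk1 : k.1 = 1 := x.2
    have hk2 : k ^ 2 = 1 := by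
      rw [hk, ← map_pow, ← map_pow, ← SubgroupClass.coe_pow, hx1]
      simp
    obtain ⟨z, hz, hzx⟩ := omega42_le x.1.2
    have hzk : z = k := pairHom_injective (by rw [hzx, hk, hinv]; rfl)
    rw [hzk, SetLike.mem_coe, MonoidHom.mem_ker] at hz
    have key : ∀ b : Equiv.Perm (Fin 3), b ^ 2 = 1 → Equiv.Perm.sign b = 1 → b = 1 := by decide +kernel
    have hb : k.2 = 1 := key k.2 (congrArg Prod.snd hk2) (by
      rw [show k = (k.1, k.2) from rfl, pairSign_apply, hk1, map_one, one_mul] at hz
      exact hz)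
    have : x = 1 := by
      refine Subtype.ext (Subtype.ext ?_)
      rw [show ((x.1 : O42)) = pairHom k by rw [hk, hinv]; rfl, show k = 1 from Prod.ext hk1 hb, map_one]
      rfl
    rw [this, orderOf_one] at hx
    norm_num at hx
  have hc : Subgroup.center Ω ≤ f.ker := by
    intro z hz
    rw [MonoidHom.mem_ker]
    have key : ∀ a : Equiv.Perm (Fin 3), (∀ b, b * a = a * b) → a = 1 := by decide +kernel
    refine key _ fun b => ?_
    obtain ⟨y, rfl⟩ := hsurj b
    rw [← map_mul, ← map_mul, Subgroup.mem_center_iff.1 hz y]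
  refine StData.of_surj (f := QuotientGroup.lift (Subgroup.center Ω) f hc)
    (QuotientGroup.lift_surjective_of_surjective _ f hsurj hc) ?_ stData_perm_three
  rw [QuotientGroup.ker_lift]
  exact fun h => hodd (h.trans (Subgroup.card_map_dvd f.ker _))

end FourTwo

/-- Transport of the split isometry group along an isomorphism of fields. -/
theorem pomega_transport {F : Type u} [Field F] [Finite F] {K : Type v} [Field K] [Finite K] (m : ℕ) (e : F ≃+* K)
    (p : ℕ) [Fact p.Prime] (h : StData p (Cfsg.POmega K (Cfsg.quadFormPlus m K))) :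
    StData p (Cfsg.POmega F (Cfsg.quadFormPlus m F)) := by
  let E : Matrix.GeneralLinearGroup (Fin m ⊕ Fin m) F ≃* Matrix.GeneralLinearGroup (Fin m ⊕ Fin m) K :=
    Units.mapEquiv (RingEquiv.mapMatrix e).toMulEquiv
  have hq : ∀ x : Fin m ⊕ Fin m → F, Cfsg.quadFormPlus m K (e ∘ x) = e (Cfsg.quadFormPlus m F x) := fun x => by
    simp [Cfsg.quadFormPlus, map_sum]
  have hmul : ∀ (g : Matrix.GeneralLinearGroup (Fin m ⊕ Fin m) F) (x : Fin m ⊕ Fin m → F),
      ((E g : Matrix.GeneralLinearGroup (Fin m ⊕ Fin m) K) : Matrix (Fin m ⊕ Fin m) (Fin m ⊕ Fin m) K) *ᵥ (e ∘ x) =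
        e ∘ ((g : Matrix (Fin m ⊕ Fin m) (Fin m ⊕ Fin m) F) *ᵥ x) := fun g x => by
    funext i
    exact (RingHom.map_mulVec e.toRingHom _ x i).symm
  have hmap : (Cfsg.isometryGroup F (Cfsg.quadFormPlus m F)).map E.toMonoidHom =
      Cfsg.isometryGroup K (Cfsg.quadFormPlus m K) := by
    ext k
    rw [Subgroup.mem_map]
    constructor
    · rintro ⟨g, hg, rfl⟩ y _
      obtain ⟨x, rfl⟩ : ∃ x : Fin m ⊕ Fin m → F, e ∘ x = y := ⟨e.symm ∘ y, funext fun i => e.apply_symm_apply _⟩
      show Cfsg.quadFormPlus m K (((E g : Matrix.GeneralLinearGroup _ K) : Matrix _ _ K) *ᵥ (e ∘ x)) =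
        Cfsg.quadFormPlus m K (e ∘ x)
      rw [hmul, hq, hq]
      exact congrArg e (hg x x)
    · intro hk
      refine ⟨E.symm k, fun x _ => ?_, E.apply_symm_apply k⟩
      show Cfsg.quadFormPlus m F (((E.symm k : Matrix.GeneralLinearGroup _ F) : Matrix _ _ F) *ᵥ x) = _
      apply e.injective
      rw [← hq, ← hq, ← hmul, E.apply_symm_apply]
      exact hk (e ∘ x) (e ∘ x)
  let E' : Cfsg.isometryGroup F (Cfsg.quadFormPlus m F) ≃* Cfsg.isometryGroup K (Cfsg.quadFormPlus m K) :=
    ((Cfsg.isometryGroup F (Cfsg.quadFormPlus m F)).equivMapOfInjective E.toMonoidHom E.injective).trans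
      (MulEquiv.subgroupCongr hmap)
  exact StData.center_congr
    (((Cfsg.Omega F (Cfsg.quadFormPlus m F)).equivMapOfInjective E'.toMonoidHom E'.injective).trans
      (MulEquiv.subgroupCongr (show (Cfsg.Omega F (Cfsg.quadFormPlus m F)).map E'.toMonoidHom =
          Cfsg.Omega K (Cfsg.quadFormPlus m K) by
        unfold Cfsg.Omega
        rw [commutator_def, commutator_def, Subgroup.map_commutator,
          Subgroup.map_top_of_surjective _ E'.surjective]))).symm h

/-- The Steinberg character of `PΩ` of odd dimension. -/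
theorem stData_odd_all {F : Type u} [Field F] [Fintype F] (p : ℕ) [Fact p.Prime] [CharP F p]
    (hodd : Odd (Fintype.card F)) {m : ℕ} (hm : 1 ≤ m) : StData p (Cfsg.POmega F (Cfsg.quadFormOdd m F)) := by
  rcases hm.eq_or_lt with rfl | h
  · obtain ⟨e⟩ := LowRank.pomega3_iso hodd
    exact (stData_psl_two p).of_equiv e
  · exact stData_omega_odd p hodd h

/-- The Steinberg character of `PΩ⁺`. -/
theorem stData_plus_all {F : Type u} [Field F] [Fintype F] (p : ℕ) [Fact p.Prime] [CharP F p]
    {m : ℕ} (hm : 1 ≤ m) : StData p (Cfsg.POmega F (Cfsg.quadFormPlus m F)) := by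
  rcases hm.eq_or_lt with rfl | h
  · obtain ⟨e⟩ := Refl.plus_dihedral (F := F) rfl
    haveI : NeZero (Fintype.card F - 1) := ⟨by have := Fintype.one_lt_card (α := F); omega⟩
    exact stData_pomega_dihedral _ e p (char_not_dvd (F := F) p).1
  rcases (Nat.succ_le_of_lt h).eq_or_lt with rfl | h'
  · by_cases hq : 3 ≤ Fintype.card F
    · obtain ⟨e⟩ := LowRank.pomega4_iso hq
      exact ((stData_psl_two p).prod (stData_psl_two p)).of_equiv e
    · have hc : Fintype.card F = 2 := by have := Fintype.one_lt_card (α := F); omega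
      have hp : p = 2 := by
        obtain ⟨n, -, hn⟩ := FiniteField.card F p
        rw [hc] at hn
        exact ((Nat.prime_dvd_prime_iff_eq Fact.out Nat.prime_two).1 (hn ▸ dvd_pow_self p n.ne_zero))
      subst hp
      exact pomega_transport 2 (ZMod.ringEquivOfPrime F Nat.prime_two hc).symm 2 stData_omega42
  · exact stData_omega_plus p h'

/-- The Steinberg character of `PΩ⁻`. -/
theorem stData_minus_all {F : Type u} [Field F] [Fintype F] (p : ℕ) [Fact p.Prime] [CharP F p]
    (m : ℕ) {a b : F} (hab : ∀ z₁ z₂ : F, z₁ ^ 2 + a * z₁ * z₂ + b * z₂ ^ 2 = 0 → z₁ = 0 ∧ z₂ = 0) :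
    StData p (Cfsg.POmega F (Cfsg.quadFormMinus m F a b)) := by
  match m with
  | 0 =>
    obtain ⟨e⟩ := Refl.minus_dihedral (F := F) rfl a b hab
    exact stData_pomega_dihedral _ e p (char_not_dvd (F := F) p).2
  | 1 =>
    obtain ⟨n, -, hn⟩ := FiniteField.card F p
    haveI := Fintype.ofFinite (GaloisField p (2 * n))
    have hK : Fintype.card (GaloisField p (2 * n)) = Fintype.card F ^ 2 := by
      rw [← Nat.card_eq_fintype_card, GaloisField.card p _ (mul_ne_zero two_ne_zero n.ne_zero), hn, ← pow_mul, mul_comm]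
    obtain ⟨e⟩ := LowRank.pomega4_minus_iso (K := GaloisField p (2 * n)) rfl hK a b hab
    exact (stData_psl_two p).of_equiv e
  | m + 2 => exact stData_omega_minus p (by omega) hab

end Cfsg.Lib.PolarBN
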