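import Cfsg.Agent.Known.PolarBN.Steps
import Cfsg.Agent.BN.Basic
import Cfsg.Prelude.Def_LieExceptional

/-!
# The Tits system of a polar space
-/

set_option autoImplicit false

namespace Cfsg.Lib.PolarBN

universe u v w

variable {G : Type w} [Group G] [Finite G] {F : Type u} [Field F] {V : Type v} [AddCommGroup V] [Module F V]
variable {m : ℕ}

namespace Polar

variable (P : Polar G F V m)
include P

/-- The representative of a long simple reflection. -/
noncomputable def sLong (i : Fin m) (c : Fin m × Bool) (h : i ≠ c.1) : G := (P.exists_long h).choose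

theorem sLong_planes {i : Fin m} {c : Fin m × Bool} (h : i ≠ c.1) : P.sLong i c h ∈ P.twoPlanes i c :=
  (P.exists_long h).choose_spec.1

theorem sLong_ln {i : Fin m} {c : Fin m × Bool} (h : i ≠ c.1) (d : Fin m × Bool) :
    P.ρ (P.sLong i c h) (P.vec d) ∈ P.ln (tau i c d) := (P.exists_long h).choose_spec.2 d

/-- The representative of the short simple reflection. -/
noncomputable def sShort (hD : ¬ P.D) (l : Fin m) : G := (P.exists_short hD l).choose

theorem sShort_spec (hD : ¬ P.D) (l : Fin m) :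
    (∀ d, d ≠ (l, true) → d ≠ (l, false) → P.ρ (P.sShort hD l) (P.vec d) = P.vec d) ∧
      P.ρ (P.sShort hD l) (P.vec (l, true)) ∈ P.ln (l, false) ∧
      P.ρ (P.sShort hD l) (P.vec (l, false)) ∈ P.ln (l, true) := (P.exists_short hD l).choose_spec

omit P in
/-- The exchange of the two ends of the last index. -/
def flip (l : Fin m) (d : Fin m × Bool) : Fin m × Bool := if d.1 = l then opp d else d

theorem sShort_ln (hD : ¬ P.D) (l : Fin m) (d : Fin m × Bool) :
    P.ρ (P.sShort hD l) (P.vec d) ∈ P.ln (flip l d) := by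
  obtain ⟨h1, h2, h3⟩ := P.sShort_spec hD l
  obtain ⟨j, b⟩ := d
  by_cases hj : j = l
  · subst hj
    rw [flip, if_pos rfl]
    cases b
    exacts [h3, h2]
  · rw [flip, if_neg hj, h1 _ (by simp [hj]) (by simp [hj])]
    exact P.vec_mem_ln _

omit P in
theorem flip_flip (l : Fin m) (d : Fin m × Bool) : flip l (flip l d) = d := by
  unfold flip
  by_cases h : d.1 = l
  · rw [if_pos h, if_pos (show (opp d).1 = l from h), opp_opp]
  · rw [if_neg h, if_neg h]

/-- The simple reflections. -/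
def gset : Set G :=
  {s | ∃ (i : Fin m) (c : Fin m × Bool) (h : P.Adm i c), s = P.sLong i c h.ne} ∪
    {s | ∃ (hD : ¬ P.D) (l : Fin m), l.val + 1 = m ∧ s = P.sShort hD l}

theorem gset_ln {s : G} (hs : s ∈ P.gset) :
    ∃ t : Fin m × Bool → Fin m × Bool, (∀ d, t (t d) = d) ∧ ∀ d, P.ρ s (P.vec d) ∈ P.ln (t d) := by
  rcases hs with ⟨i, c, h, rfl⟩ | ⟨hD, l, -, rfl⟩
  · exact ⟨_, fun d => tau_tau h.ne d, P.sLong_ln h.ne⟩
  · exact ⟨_, flip_flip l, P.sShort_ln hD l⟩

theorem gset_mono {s : G} (hs : s ∈ P.gset) : s ∈ P.mono := by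
  obtain ⟨t, -, ht⟩ := P.gset_ln hs
  exact fun d => ⟨t d, ht d⟩

theorem gset_sq {s : G} (hs : s ∈ P.gset) : s * s ∈ P.tor := by
  obtain ⟨t, htt, ht⟩ := P.gset_ln hs
  intro d
  obtain ⟨c, -, hc⟩ := P.exists_scalar (ht d)
  rw [P.ρ_mul, hc, map_smul]
  refine Submodule.smul_mem _ _ ?_
  have := ht (t d)
  rwa [htt] at this

/-- The monomial group of the Tits system. -/
def nN : Subgroup G := Subgroup.closure P.gset ⊔ P.tor

theorem nN_le_mono : P.nN ≤ P.mono :=
  sup_le ((Subgroup.closure_le _).2 fun _ hs => P.gset_mono hs) P.tor_le_mono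

theorem gset_le_nN {s : G} (hs : s ∈ P.gset) : s ∈ P.nN :=
  Subgroup.mem_sup_left (Subgroup.subset_closure hs)

theorem bor_inf_nN : P.bor ⊓ P.nN = P.tor :=
  le_antisymm ((inf_le_inf_left _ P.nN_le_mono).trans P.bor_inf_mono.le) (le_inf P.tor_le_bor le_sup_right)

/-- `d` can be carried to `d'` by a monomial element fixing the frame below `i`. -/
def Rel (i : ℕ) (d d' : Fin m × Bool) : Prop :=
  ∃ n ∈ P.nN, (∀ a : Fin m × Bool, a.1.val < i → P.ρ n (P.vec a) ∈ P.ln a) ∧ P.ρ n (P.vec d) ∈ P.ln d'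

theorem Rel.refl (i : ℕ) (d : Fin m × Bool) : P.Rel i d d :=
  ⟨1, one_mem _, fun a _ => by rw [P.ρ_one]; exact P.vec_mem_ln a, by rw [P.ρ_one]; exact P.vec_mem_ln d⟩

theorem Rel.trans {i : ℕ} {a b c : Fin m × Bool} (h : P.Rel i a b) (h' : P.Rel i b c) : P.Rel i a c := by
  obtain ⟨n, hn, hn1, hn2⟩ := h
  obtain ⟨k, hk, hk1, hk2⟩ := h'
  refine ⟨k * n, mul_mem hk hn, fun d hd => ?_, ?_⟩
  · obtain ⟨r, -, hr⟩ := P.exists_scalar (hn1 d hd)
    rw [P.ρ_mul, hr, map_smul]
    exact Submodule.smul_mem _ _ (hk1 d hd)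
  · obtain ⟨r, -, hr⟩ := P.exists_scalar hn2
    rw [P.ρ_mul, hr, map_smul]
    exact Submodule.smul_mem _ _ hk2

theorem Rel.symm {i : ℕ} {a b : Fin m × Bool} (h : P.Rel i a b) : P.Rel i b a := by
  obtain ⟨n, hn, hn1, hn2⟩ := h
  have key : ∀ c d, P.ρ n (P.vec c) ∈ P.ln d → P.ρ n⁻¹ (P.vec d) ∈ P.ln c := by
    intro c d hcd
    obtain ⟨r, hr0, hr⟩ := P.exists_scalar hcd
    have := congrArg (P.ρ n⁻¹) hr
    rw [P.ρ_inv_self, map_smul] at this
    exact P.mem_ln.2 ⟨r⁻¹, by rw [this, smul_smul, inv_mul_cancel₀ hr0, one_smul]⟩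
  exact ⟨n⁻¹, inv_mem hn, fun d hd => key d d (hn1 d hd), key a b hn2⟩

theorem rel_adj {i : ℕ} {k k' : Fin m} (hk : i ≤ k.val) (h : k'.val = k.val + 1) (b : Bool) :
    P.Rel i (k, b) (k', b) := by
  have ha : P.Adm k (k', true) := ⟨h, Or.inl rfl⟩
  have hne : k ≠ k' := ha.ne
  refine ⟨_, P.gset_le_nN (Or.inl ⟨k, _, ha, rfl⟩), fun a ha' => ?_, ?_⟩
  · have := P.sLong_ln ha.ne a
    rwa [show tau k (k', true) a = a by
      have h1 : a.1 ≠ k := fun e => by rw [e] at ha'; omega
      have h2 : a.1 ≠ k' := fun e => by rw [e] at ha'; omega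
      unfold tau
      rw [if_neg, if_neg, if_neg, if_neg] <;> intro e <;>
        first | exact h1 (congrArg Prod.fst e) | exact h2 (congrArg Prod.fst e)] at this
  · have := P.sLong_ln ha.ne (k, b)
    rwa [show tau k (k', true) (k, b) = (k', b) by cases b <;> simp [tau, opp, hne]] at this

theorem rel_last {i : ℕ} (l : Fin m) (hl : l.val + 1 = m) (hi : i ≤ l.val) (hflip : ¬ P.D ∨ i + 2 ≤ m) :
    P.Rel i (l, true) (l, false) := by
  by_cases hD : P.D
  · have hi2 : i + 2 ≤ m := hflip.resolve_left (not_not.2 hD)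
    let k : Fin m := ⟨m - 2, by omega⟩
    have hkl : l.val = k.val + 1 := by show l.val = m - 2 + 1; omega
    have ha : P.Adm k (l, false) := ⟨hkl, Or.inr ⟨hD, hl⟩⟩
    refine ((P.rel_adj (k := k) (show i ≤ m - 2 by omega) hkl true).symm (P := P)).trans (P := P) ?_
    refine ⟨_, P.gset_le_nN (Or.inl ⟨k, _, ha, rfl⟩), fun a ha' => ?_, ?_⟩
    · have := P.sLong_ln ha.ne a
      rwa [show tau k (l, false) a = a by
        have h1 : a.1 ≠ k := fun e => by rw [e] at ha'; simp only [k] at ha'; omega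
        have h2 : a.1 ≠ l := fun e => by rw [e] at ha'; omega
        unfold tau
        rw [if_neg, if_neg, if_neg, if_neg] <;> intro e <;>
          first | exact h1 (congrArg Prod.fst e) | exact h2 (congrArg Prod.fst e)] at this
    · have := P.sLong_ln ha.ne (k, true)
      rwa [show tau k (l, false) (k, true) = (l, false) by simp [tau]] at this
  · refine ⟨_, P.gset_le_nN (Or.inr ⟨hD, l, hl, rfl⟩), fun a ha' => ?_, ?_⟩
    · have := P.sShort_ln hD l a
      rwa [show flip l a = a by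
        unfold flip
        rw [if_neg]
        intro e; rw [e] at ha'; omega] at this
    · exact (P.sShort_spec hD l).2.1

theorem rel_all {i : ℕ} (hflip : ¬ P.D ∨ i + 2 ≤ m) {d d' : Fin m × Bool} (hd : i ≤ d.1.val) (hd' : i ≤ d'.1.val) :
    P.Rel i d d' := by
  let l : Fin m := ⟨m - 1, by have := P.pos; omega⟩
  have hl : l.val + 1 = m := by show m - 1 + 1 = m; have := P.pos; omega
  have up : ∀ t : ℕ, ∀ k : Fin m, i ≤ k.val → k.val + t = l.val → ∀ b, P.Rel i (k, b) (l, b) := by
    intro t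
    induction t with
    | zero => intro k _ e b; rw [show k = l from Fin.ext (by omega)]; exact Rel.refl (P := P) _ _
    | succ t ih =>
      intro k hk e b
      let k' : Fin m := ⟨k.val + 1, by omega⟩
      exact (P.rel_adj hk (k' := k') rfl b).trans (P := P) (ih k' (by show i ≤ k.val + 1; omega)
        (by show k.val + 1 + t = l.val; omega) b)
  have toTop : ∀ a : Fin m × Bool, i ≤ a.1.val → P.Rel i a (l, true) := by
    intro a ha
    have h := up (l.val - a.1.val) a.1 ha (by omega) a.2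
    cases hb : a.2
    · rw [hb] at h
      rw [show a = (a.1, false) from Prod.ext rfl hb]
      exact h.trans (P := P) ((P.rel_last l hl (by omega) hflip).symm (P := P))
    · rw [hb] at h
      rw [show a = (a.1, true) from Prod.ext rfl hb]
      exact h
  exact (toTop d hd).trans (P := P) ((toTop d' hd').symm (P := P))

theorem flip_zero : ¬ P.D ∨ 0 + 2 ≤ m := by
  by_cases hD : P.D
  · exact Or.inr (by have := P.two hD; omega)
  · exact Or.inl hD

theorem fixes_all_lines {z : G} (h : ∀ n ∈ P.nN, n⁻¹ * z * n ∈ P.bor) : z ∈ P.tor := by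
  intro d
  let o : Fin m := ⟨0, P.pos⟩
  obtain ⟨n, hn, -, hnd⟩ := P.rel_all (i := 0) P.flip_zero (d := (o, true)) (d' := d) (Nat.zero_le _) (Nat.zero_le _)
  obtain ⟨r, hr0, hr⟩ := P.exists_scalar hnd
  have h1 : P.ρ (n⁻¹ * z * n) (P.e o) ∈ P.ln (o, true) := by
    refine Submodule.span_mono (Set.image_mono ?_) (show P.ρ (n⁻¹ * z * n) (P.e o) ∈ Submodule.span F _ from h n hn o)
    rintro ⟨j, b⟩ ⟨hb, hj⟩
    simp only at hb hj
    subst hb
    rw [Set.mem_singleton_iff, Prod.mk.injEq]
    exact ⟨Fin.ext (by show j.val = 0; simp only [o] at hj; omega), rfl⟩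
  obtain ⟨c, hc⟩ := P.mem_ln.1 h1
  have h2 := congrArg (P.ρ n) hc
  rw [map_smul, hr, P.ρ_mul, P.ρ_mul, P.ρ_self_inv, show P.ρ n (P.e o) = r • P.vec d from hr, map_smul,
    smul_smul] at h2
  exact P.mem_ln.2 ⟨r⁻¹ * (c * r), by rw [mul_smul, h2, smul_smul, inv_mul_cancel₀ hr0, one_smul]⟩

theorem Fl_map_surj {g : G} {i : ℕ} (hg : ∀ l : Fin m, l.val < i → P.ρ g (P.e l) ∈ P.Fl (l.val + 1)) :
    (∀ x ∈ P.Fl i, P.ρ g x ∈ P.Fl i) ∧ ∀ y ∈ P.Fl i, ∃ x ∈ P.Fl i, P.ρ g x = y := by
  have h1 : ∀ x ∈ P.Fl i, P.ρ g x ∈ P.Fl i := by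
    intro x hx
    rw [Fl] at hx
    induction hx using Submodule.span_induction with
    | mem y hy =>
      obtain ⟨⟨j, b⟩, ⟨hb, hj⟩, rfl⟩ := hy
      simp only at hb hj
      subst hb
      exact P.Fl_mono hj (hg j hj)
    | zero => rw [map_zero]; exact zero_mem _
    | add y z _ _ hy hz => rw [map_add]; exact add_mem hy hz
    | smul c y _ hy => rw [map_smul]; exact Submodule.smul_mem _ c hy
  refine ⟨h1, fun y hy => ?_⟩
  haveI : FiniteDimensional F (P.Fl i) := FiniteDimensional.span_of_finite F (Set.toFinite _)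
  let f : P.Fl i →ₗ[F] P.Fl i := (P.ρ g).restrict h1
  have hf : Function.Injective f := fun a b e => Subtype.ext (P.ρ_injective g (congrArg Subtype.val e))
  obtain ⟨x, hx⟩ := LinearMap.injective_iff_surjective.1 hf ⟨y, hy⟩
  exact ⟨x, x.2, congrArg Subtype.val hx⟩

theorem sup_eq : P.bor ⊔ P.nN = ⊤ := by
  rw [eq_top_iff]
  intro g _
  have key : ∀ i : ℕ, i ≤ m → ∃ k ∈ P.bor ⊔ P.nN, ∀ l : Fin m, l.val < i →
      P.ρ (k * g) (P.e l) ∈ P.Fl (l.val + 1) := by
    intro i
    induction i with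
    | zero => exact fun _ => ⟨1, one_mem _, fun l hl => absurd hl (Nat.not_lt_zero _)⟩
    | succ i ih =>
      intro hi
      obtain ⟨k, hk, hkg⟩ := ih (by omega)
      set g' := k * g with hg'
      obtain ⟨hFl, hFls⟩ := P.Fl_map_surj hkg
      let li : Fin m := ⟨i, by omega⟩
      set v := P.ρ g' (P.e li) with hv
      suffices hstep : ∃ k' ∈ P.bor ⊔ P.nN, (∀ l : Fin m, l.val < i → P.ρ k' (P.e l) ∈ P.Fl (l.val + 1)) ∧
          P.ρ k' v ∈ P.Fl (i + 1) by
        obtain ⟨k', hk', hk'1, hk'2⟩ := hstep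
        refine ⟨k' * k, mul_mem hk' hk, fun l hl => ?_⟩
        rw [mul_assoc, ← hg', P.ρ_mul]
        rcases (Nat.lt_succ_iff.1 hl).lt_or_eq with hlt | heq
        · exact (P.Fl_map_surj (i := l.val + 1) fun j hj => hk'1 j (by omega)).1 _ (hkg l hlt)
        · rw [show l = li from Fin.ext heq]; exact hk'2
      by_cases hlast : P.D ∧ i + 1 = m
      · refine ⟨1, one_mem _, fun l _ => by rw [P.ρ_one]; exact P.e_mem_Fl (Nat.lt_succ_self _), ?_⟩
        rw [P.ρ_one, hlast.2]
        have hspan : ∀ n : ℕ, Submodule.span F (P.e '' {j : Fin m | j.val ≤ n}) = P.Fl (n + 1) := fun n => by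
          rw [Fl]
          congr 1
          ext x
          constructor
          · rintro ⟨j, hj, rfl⟩; exact ⟨(j, true), ⟨rfl, Nat.lt_succ_of_le hj⟩, rfl⟩
          · rintro ⟨⟨j, b⟩, ⟨hb, hj⟩, rfl⟩
            simp only at hb hj
            subst hb
            exact ⟨j, Nat.le_of_lt_succ hj, rfl⟩
        have h := P.last hlast.1 g' (fun l hl => by rw [hspan]; exact hkg l (by omega)) li hlast.2
        refine Submodule.span_le.2 ?_ h
        rintro _ ⟨j, rfl⟩
        exact P.e_mem_Fl j.isLt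
      have hflip : ¬ P.D ∨ i + 2 ≤ m := by
        by_cases hD : P.D
        · exact Or.inr (by have : i + 1 ≠ m := fun e => hlast ⟨hD, e⟩; omega)
        · exact Or.inl hD
      have hve : ∀ l : Fin m, l.val < i → P.β v (P.e l) = 0 := by
        intro l hl
        obtain ⟨x, hx, hxl⟩ := hFls _ (P.e_mem_Fl hl)
        rw [← hxl, hv, P.map]
        exact P.symm_zero ((P.mem_Fl.1 hx).1 li)
      obtain ⟨d, hd, hd0⟩ : ∃ d : Fin m × Bool, i ≤ d.1.val ∧ P.β v (P.vec d) ≠ 0 := by
        by_contra hno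
        push Not at hno
        set r := ∑ l : Fin m with l.val < i, (P.β v (P.f l)) • P.e l with hr
        have hrm : r ∈ P.Fl i :=
          Submodule.sum_mem _ fun l hl => Submodule.smul_mem _ _ (P.e_mem_Fl (Finset.mem_filter.1 hl).2)
        have hvr : P.β v r = 0 := by
          rw [hr, P.sum_right]
          exact Finset.sum_eq_zero fun l hl => by rw [P.smul_right, hve l (Finset.mem_filter.1 hl).2, mul_zero]
        set w := v + (-1 : F) • r with hw
        have hws : P.Sing w := P.sing_add _ _ (P.sing_map _ _ (P.e_sing li))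
          (P.sing_smul _ _ (P.sing_span (fun a ha h' => by simp [opp, ha.1] at h') hrm).1)
          (by rw [P.smul_right, hvr, mul_zero])
        have hwW : P.W w := by
          intro l
          rw [hw, P.add_left, P.add_left, P.smul_left, P.smul_left, hr, P.sum_left, P.sum_left]
          by_cases hl : l.val < i
          · rw [hve l hl, Finset.sum_eq_zero (fun k _ => by rw [P.smul_left, P.ee, mul_zero]),
              Finset.sum_eq_single l (fun k _ hk => by rw [P.smul_left, P.ef, if_neg hk, mul_zero])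
                (fun h => absurd (Finset.mem_filter.2 ⟨Finset.mem_univ l, hl⟩) h), P.smul_left, P.ef, if_pos rfl]
            exact ⟨by ring, by ring⟩
          · rw [show P.β v (P.e l) = 0 from hno (l, true) (not_lt.1 hl),
              show P.β v (P.f l) = 0 from hno (l, false) (not_lt.1 hl),
              Finset.sum_eq_zero (fun k _ => by rw [P.smul_left, P.ee, mul_zero]),
              Finset.sum_eq_zero (fun k hk => by
                rw [P.smul_left, P.ef, if_neg, mul_zero]
                intro e; rw [e] at hk; exact hl (Finset.mem_filter.1 hk).2)]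
            exact ⟨by ring, by ring⟩
        have hvFl : v ∈ P.Fl i := by
          have h0 := P.aniso w hwW hws
          rw [hw, neg_one_smul, add_neg_eq_zero] at h0
          exact h0 ▸ hrm
        obtain ⟨x, hx, hxv⟩ := hFls v hvFl
        have hx' : P.e li = x := (P.ρ_injective g' hxv).symm
        have h9 := (P.mem_Fl.1 hx).2.1 li le_rfl
        rw [← hx', P.ef, if_pos rfl] at h9
        exact one_ne_zero h9
      obtain ⟨n, hn, hn1, hn2⟩ := P.rel_all (i := i) hflip (d := d) (d' := (li, true)) hd le_rfl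
      obtain ⟨n', hn', hn'1, hn'2⟩ :=
        P.rel_all (i := i) hflip (d := (li, false)) (d' := (li, true)) le_rfl le_rfl
      set v1 := P.ρ n v
      have hv1 : P.β v1 (P.e li) ≠ 0 := by
        obtain ⟨r, -, hr⟩ := P.exists_scalar hn2
        intro h0
        refine hd0 ?_
        rw [← P.map n, hr, P.smul_right, show P.vec (li, true) = P.e li from rfl, h0, mul_zero]
      have hv1e : ∀ l : Fin m, l.val < i → P.β v1 (P.e l) = 0 := fun l hl => by
        obtain ⟨r, hr0, hr⟩ := P.exists_scalar (hn1 (l, true) hl)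
        have h := P.map n v (P.vec (l, true))
        rw [hr, P.smul_right, P.vec_true, hve l hl] at h
        refine (mul_eq_zero.1 h).resolve_left fun e => hr0 ?_
        have := congrArg P.σ e
        rwa [P.σσ, map_zero] at this
      obtain ⟨x, z, a, dd, hdd, hx1, hx, -, hz⟩ := P.exists_move (P.e_sing li) (P.f_sing li)
        (by rw [P.ef, if_pos rfl]) (P.sing_map n v (P.sing_map _ _ (P.e_sing li))) hv1
      have hxB : x ∈ P.bor := P.uni_le_bor (hx.mem_uni (P := P) fun j hj => by
        clear hx hx1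
        induction hz using Submodule.span_induction with
        | mem y hy =>
          simp only [Set.mem_insert_iff, Set.mem_singleton_iff] at hy
          rcases hy with e | e | e <;> subst e
          · exact P.ee li j
          · rw [P.fe, if_neg]; intro e; rw [← e] at hj; exact lt_irrefl _ hj
          · exact hv1e j hj
        | zero => exact P.zero_left _
        | add p q _ _ hp hq => rw [P.add_left, hp, hq, add_zero]
        | smul r p _ hp => rw [P.smul_left, hp, mul_zero])
      refine ⟨n' * (x⁻¹ * n), mul_mem (Subgroup.mem_sup_right hn')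
        (mul_mem (Subgroup.mem_sup_left (inv_mem hxB)) (Subgroup.mem_sup_right hn)), fun l hl => ?_, ?_⟩
      · obtain ⟨r, -, hr⟩ := P.exists_scalar (hn1 (l, true) hl)
        rw [P.ρ_mul, P.ρ_mul, show P.ρ n (P.e l) = r • P.e l from hr, map_smul, map_smul]
        refine Submodule.smul_mem _ _ ((P.Fl_map_surj (i := l.val + 1) fun j hj => ?_).1 _
          (P.bor_map (inv_mem hxB) (P.e_mem_Fl (Nat.lt_succ_self _))))
        obtain ⟨r', hr'⟩ := P.mem_ln.1 (hn'1 (j, true) (by show j.val < i; omega))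
        rw [show P.ρ n' (P.e j) = r' • P.e j from hr'.symm]
        exact Submodule.smul_mem _ _ (P.e_mem_Fl (Nat.lt_succ_self _))
      · have h8 := congrArg (P.ρ x⁻¹) hx1
        rw [P.ρ_inv_self, map_smul] at h8
        obtain ⟨r', hr'⟩ := P.mem_ln.1 hn'2
        rw [P.ρ_mul, P.ρ_mul, show P.ρ x⁻¹ v1 = dd⁻¹ • P.f li by rw [h8, smul_smul, inv_mul_cancel₀ hdd, one_smul],
          map_smul, show P.ρ n' (P.f li) = r' • P.e li from hr'.symm]
        exact Submodule.smul_mem _ _ (Submodule.smul_mem _ _ (P.e_mem_Fl (Nat.lt_succ_self _)))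
  obtain ⟨k, hk, hkg⟩ := key m le_rfl
  have : k * g ∈ P.bor := fun l => hkg l l.isLt
  have e : g = k⁻¹ * (k * g) := by group
  rw [e]
  exact mul_mem (inv_mem hk) (Subgroup.mem_sup_left this)

theorem mem_dc_of {s x n y : G} {c : G} (hc : c ∈ P.bor)
    (h : n⁻¹ * x * n ∈ P.bor ∨ (s * x * y ∈ P.bor ∧ n⁻¹ * y * n ∈ P.bor)) :
    c * (s * x * n) ∈ DoubleCoset.doubleCoset (s * n) (P.bor : Set G) P.bor ∪
      DoubleCoset.doubleCoset n (P.bor : Set G) P.bor := by
  rcases h with h | ⟨h1, h2⟩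
  · exact Or.inl (DoubleCoset.mem_doubleCoset.2 ⟨c, hc, _, h, by group⟩)
  · exact Or.inr (DoubleCoset.mem_doubleCoset.2 ⟨c * (s * x * y), mul_mem hc h1, _, inv_mem h2, by group⟩)

theorem union_step {s n g : G} (hg : g ∈ P.bor) {X Y : G → Prop}
    (hsplit : ∃ x, X x ∧ s * (g * x) * s⁻¹ ∈ P.bor)
    (hstep : ∀ x, X x → x = 1 ∨ ∃ y, Y y ∧ s * x⁻¹ * y ∈ P.bor)
    (hdich : (∀ x, X x → n⁻¹ * x * n ∈ P.uni) ∨ (∀ y, Y y → n⁻¹ * y * n ∈ P.uni)) :
    s * g * n ∈ DoubleCoset.doubleCoset (s * n) (P.bor : Set G) P.bor ∪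
      DoubleCoset.doubleCoset n (P.bor : Set G) P.bor := by
  obtain ⟨x, hx, hc⟩ := hsplit
  have e : s * g * n = (s * (g * x) * s⁻¹) * (s * x⁻¹ * n) := by group
  rw [e]
  rcases hstep x hx with rfl | ⟨y, hy, hyB⟩
  · exact P.mem_dc_of hc (y := 1) (Or.inl (by simp))
  rcases hdich with h | h
  · refine P.mem_dc_of hc (y := 1) (Or.inl ?_)
    have := inv_mem (P.uni_le_bor (h x hx))
    rwa [show (n⁻¹ * x * n)⁻¹ = n⁻¹ * x⁻¹ * n by group] at this
  · exact P.mem_dc_of hc (Or.inr ⟨hyB, P.uni_le_bor (h y hy)⟩)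

theorem mul_mem_union {s n g : G} (hs : s ∈ P.gset) (hn : n ∈ P.nN) (hg : g ∈ P.bor) :
    s * g * n ∈ DoubleCoset.doubleCoset (s * n) (P.bor : Set G) P.bor ∪
      DoubleCoset.doubleCoset n (P.bor : Set G) P.bor := by
  rcases hs with ⟨i, c, h, rfl⟩ | ⟨hD, l, hl, rfl⟩
  · refine P.union_step hg (X := fun x => P.IsR x (i, true) (opp c)) (Y := fun y => P.IsR y (i, false) c)
      (P.long_split h (P.sLong_ln h.ne) hg) (fun x hx => P.long_step h (P.sLong_planes h.ne) (P.sLong_ln h.ne) hx) ?_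
    have := P.root_dichotomy (a := (i, true)) (b := opp c) (show i ≠ (opp c).1 from h.ne) (P.nN_le_mono hn)
    rw [opp_opp] at this
    exact this
  · obtain ⟨h1, h2, h3⟩ := P.sShort_spec hD l
    exact P.union_step hg (X := fun x => P.IsX x (l, true)) (Y := fun y => P.IsX y (l, false))
      (P.short_split hl h1 h2 h3 hg) (fun x hx => P.short_step h1 h3 hx)
      (P.short_dichotomy (l, true) (P.nN_le_mono hn))

/-- The point a simple reflection moves off the flag. -/
theorem gset_conj_ne {s : G} (hs : s ∈ P.gset) : ∃ b ∈ P.bor, s * b * s ∉ P.bor := by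
  rcases hs with ⟨i, c, h, rfl⟩ | ⟨hD, l, hl, rfl⟩
  · have hic := h.ne
    obtain ⟨x, hx, hxc⟩ := P.exists_R_move (a := (i, true)) (b := opp c) (show i ≠ (opp c).1 from hic) 1
    rw [opp_opp, one_smul] at hxc
    refine ⟨x, P.uni_le_bor (hx.mem_uni_of_left (P := P) rfl
      (Or.inr (by show i.val ≤ c.1.val; have := h.1; omega))), fun hB => ?_⟩
    set s := P.sLong i c hic
    have ha := P.sLong_ln hic (i, true)
    rw [show tau i c (i, true) = c by simp [tau]] at ha
    have hc := P.sLong_ln hic c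
    rw [show tau i c c = (i, true) by
      have : c ≠ (i, true) := fun e => hic (congrArg Prod.fst e).symm
      simp [tau, this]] at hc
    obtain ⟨r1, hr1, e1⟩ := P.exists_scalar ha
    obtain ⟨r2, -, e2⟩ := P.exists_scalar hc
    have he : P.ρ (s * x * s) (P.e i) = (r1 * r2) • P.vec (i, true) + (r1 * r1) • P.vec c := by
      rw [P.ρ_mul, P.ρ_mul, show P.ρ s (P.e i) = r1 • P.vec c from e1, map_smul, hxc, map_smul, map_add, e2, e1,
        smul_add, smul_smul, smul_smul]
    have hB' : P.ρ (s * x * s) (P.e i) ∈ P.Fl (i.val + 1) := hB i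
    rw [Fl, P.mem_span_iff] at hB'
    have := hB'.1 c (fun hc' => by have := hc'.2; have := h.1; omega)
    rw [he, P.add_left, P.smul_left, P.smul_left, P.beta_vec_opp,
      P.beta_vec_ne (a := (i, true)) (b := opp c) (fun e => hic (congrArg Prod.fst e).symm)] at this
    simp [hr1, P.sg_ne] at this
  · obtain ⟨h1, h2, h3⟩ := P.sShort_spec hD l
    obtain ⟨z, hz, a, ha, hp⟩ := P.short hD
    obtain ⟨x, hx⟩ := P.exists_IsS (P.e_sing l) (hz l).1 hp
    refine ⟨x, P.uni_le_bor ((show P.IsX x (l, true) from ⟨z, a, hz, hx⟩).mem_uni (P := P)), fun hB => ?_⟩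
    set s := P.sShort hD l
    obtain ⟨r1, hr1, e1⟩ := P.exists_scalar h2
    obtain ⟨r2, hr2, e2⟩ := P.exists_scalar h3
    rw [P.vec_true, P.vec_false] at e1 e2
    have he : P.β (P.ρ s (P.ρ x (P.ρ s (P.e l)))) (P.e l) = 0 := by
      rw [← P.ρ_mul, ← P.ρ_mul]
      exact (P.mem_Fl.1 (hB l)).1 l
    have h5 : P.β (P.ρ x (P.f l)) (P.f l) = a * P.ε := by
      rw [hx.2.2.2, P.fe, if_pos rfl, P.symm_zero (hz l).2, mul_zero, P.add_left, P.add_left, P.smul_left,
        P.smul_left, P.ff, (hz l).2, P.ef, if_pos rfl]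
      ring
    have h6 : P.ρ s⁻¹ (P.e l) = r2⁻¹ • P.f l := by
      have := congrArg (P.ρ s⁻¹) e2
      rw [P.ρ_inv_self, map_smul] at this
      rw [this, smul_smul, inv_mul_cancel₀ hr2, one_smul]
    rw [e1, map_smul, map_smul, P.smul_left, P.map_inv_left, h6, P.smul_right, h5] at he
    simp only [mul_eq_zero, hr1, ha, P.ε_ne, or_false, false_or] at he
    have := congrArg P.σ he
    rw [P.σσ, map_zero] at this
    exact inv_ne_zero hr2 this

theorem gset_inj {s s' : G} (hs : s ∈ P.gset) (hs' : s' ∈ P.gset) (hB : s⁻¹ * s' ∈ P.bor) : s = s' := by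
  have hT : s⁻¹ * s' ∈ P.tor :=
    P.bor_inf_mono.le (Subgroup.mem_inf.2
      ⟨hB, P.mono.mul_mem (P.mono.inv_mem (P.gset_mono hs)) (P.gset_mono hs')⟩)
  have key : ∀ d a b, P.ρ s (P.vec d) ∈ P.ln a → P.ρ s' (P.vec d) ∈ P.ln b → a = b := by
    intro d a b ha hb
    obtain ⟨r, -, hr⟩ := P.exists_scalar (hT d)
    have h1 : P.ρ s' (P.vec d) ∈ P.ln a := by
      rw [show s' = s * (s⁻¹ * s') by group, P.ρ_mul, hr, map_smul]
      exact Submodule.smul_mem _ _ ha
    exact P.ln_unique (fun e => P.vec_ne_zero d (P.ρ_injective s' (by rw [map_zero, e]))) h1 hb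
  rcases hs with ⟨i, c, h, rfl⟩ | ⟨hD, l, hl, rfl⟩ <;> rcases hs' with ⟨i', c', h', rfl⟩ | ⟨hD', l', hl', rfl⟩
  · have e1 := key (i, true) c _ (by
      have := P.sLong_ln h.ne (i, true); rwa [show tau i c (i, true) = c by simp [tau]] at this)
      (P.sLong_ln h'.ne (i, true))
    have e2 := key (i', true) _ c' (P.sLong_ln h.ne (i', true)) (by
      have := P.sLong_ln h'.ne (i', true); rwa [show tau i' c' (i', true) = c' by simp [tau]] at this)
    have hi : i = i' := by
      by_contra hne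
      have hv := Fin.val_ne_of_ne hne
      have hc1 := h.1
      have hc2 := h'.1
      have f1 : c.1 = i' ∧ c'.1 = i := by
        unfold tau at e1
        split_ifs at e1 with q1 q2 q3 q4
        · exact absurd (congrArg Prod.fst q1) hne
        · exact ⟨congrArg Prod.fst e1, (congrArg Prod.fst q2).symm⟩
        · simp at q3
        · exact ⟨congrArg Prod.fst e1, (congrArg Prod.fst q4).symm⟩
        · exact absurd (congrArg Prod.fst e1).symm (h.ne (P := P))
      have u1 := congrArg Fin.val f1.1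
      have u2 := congrArg Fin.val f1.2
      omega
    subst hi
    have : c = c' := by rw [e1]; simp [tau]
    subst this
    rfl
  · exfalso
    have e := key (i, true) c _ (by
      have := P.sLong_ln h.ne (i, true); rwa [show tau i c (i, true) = c by simp [tau]] at this)
      (P.sShort_ln hD' l' (i, true))
    have hne : i ≠ l' := fun e' => by have := h.1; have := c.1.isLt; have := congrArg Fin.val e'; omega
    rw [flip, if_neg hne] at e
    exact h.ne (P := P) (by rw [e])
  · exfalso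
    have e := key (i', true) _ c' (P.sShort_ln hD l (i', true)) (by
      have := P.sLong_ln h'.ne (i', true); rwa [show tau i' c' (i', true) = c' by simp [tau]] at this)
    have hne : i' ≠ l := fun e' => by have := h'.1; have := c'.1.isLt; have := congrArg Fin.val e'; omega
    rw [flip, if_neg hne] at e
    exact h'.ne (P := P) (by rw [← e])
  · obtain rfl : l = l' := Fin.ext (by omega)
    rfl

/-- The Tits system. -/
noncomputable def pair : Cfsg.BNPair G where
  B := P.bor
  N := P.nN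
  S := P.gset
  sup_eq_top := P.sup_eq
  conj_mem := fun n hn t ht => P.tor_le_bor (P.tor_conj (P.nN_le_mono hn) (P.bor_inf_nN.le ht))
  subset := fun _ hs => P.gset_le_nN hs
  sq_mem := fun _ hs => P.tor_le_bor (P.gset_sq hs)
  inj := fun _ hs _ hs' h => P.gset_inj hs hs' h
  closure_sup := by rw [P.bor_inf_nN]; rfl
  mul_mem_union := fun _ hs _ hn _ hb => P.mul_mem_union hs hn hb
  conj_ne := fun s hs h => by
    obtain ⟨b, hb, hb'⟩ := P.gset_conj_ne hs
    exact hb' (SetLike.mem_coe.1 (h ▸ ⟨b, hb, rfl⟩))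

end Polar

end Cfsg.Lib.PolarBN
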