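import Cfsg.Agent.Known.PolarBN.Groups

/-!
# Simple reflections of a polar space

The long simple root pairs, the short one at the end of the frame, and representatives of their reflections.
-/

set_option autoImplicit false

namespace Cfsg.Lib.PolarBN

universe u v w

variable {G : Type w} [Group G] [Finite G] {F : Type u} [Field F] {V : Type v} [AddCommGroup V] [Module F V]
variable {m : ℕ}

namespace Polar

variable (P : Polar G F V m)
include P

theorem par_zero' (x : V) (hx : P.Sing x) (t : F) : P.par (t • x) 0 := (P.par_zero_iff _).2 (P.sing_smul t x hx)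

theorem IsR.apply_other {g : G} {a b d : Fin m × Bool} (h : P.IsR g a b) (h1 : d ≠ opp a) (h2 : d ≠ opp b) :
    P.ρ g (P.vec d) = P.vec d := by
  obtain ⟨t, ht⟩ := h
  refine ht.apply_orth (P := P) (P.beta_vec_ne fun e => h1 (by rw [e, opp_opp])) ?_
  rw [P.smul_right, P.beta_vec_ne (fun e => h2 (by rw [e, opp_opp])), mul_zero]

theorem IsR.apply_W {g : G} {a b : Fin m × Bool} (h : P.IsR g a b) {x : V} (hx : P.W x) : P.ρ g x = x := by
  obtain ⟨t, ht⟩ := h
  refine ht.apply_orth (P := P) (P.W_vec hx a) ?_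
  rw [P.smul_right, P.W_vec hx, mul_zero]

theorem IsR.apply_right {g : G} {a b : Fin m × Bool} (h : P.IsR g a b) (hab : a.1 ≠ b.1) :
    ∃ t : F, P.ρ g (P.vec (opp b)) = P.vec (opp b) + t • P.vec a ∧
      (t = 0 → ∀ x, P.ρ g x = x) := by
  obtain ⟨t, ht⟩ := h
  refine ⟨-(P.ε * P.σ t * P.sg (opp b)), ?_, fun h0 x => ?_⟩
  · rw [ht.2.2.2, P.smul_right, P.beta_vec_ne (fun e => hab (by rw [e, opp_opp]))]
    have : P.β (P.vec (opp b)) (P.vec b) = P.sg (opp b) := by
      rw [P.beta_vec, if_pos (opp_opp b).symm]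
    rw [this]
    simp only [zero_smul, add_zero, mul_zero, zero_sub, mul_assoc]
  · have : t = 0 := by
      rw [neg_eq_zero, mul_eq_zero, mul_eq_zero] at h0
      rcases h0 with (h0 | h0) | h0
      · exact absurd h0 P.ε_ne
      · have := congrArg P.σ h0; rwa [P.σσ, map_zero] at this
      · exact absurd h0 (P.sg_ne _)
    rw [ht.2.2.2, this]; simp [P.zero_right]

theorem exists_R_move {a b : Fin m × Bool} (hab : a.1 ≠ b.1) (t : F) :
    ∃ g, P.IsR g a b ∧ P.ρ g (P.vec (opp b)) = P.vec (opp b) + t • P.vec a := by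
  have hz : P.β (P.σ (-(P.ε * t) / P.sg (opp b)) • P.vec b) (P.vec a) = 0 := by
    rw [P.smul_left, P.beta_vec_ne (fun e => hab (by rw [e]; rfl)), mul_zero]
  obtain ⟨g, hg⟩ := P.exists_IsS (P.vec_sing a) hz (P.par_zero' _ (P.vec_sing b) _)
  refine ⟨g, ⟨_, hg⟩, ?_⟩
  rw [hg.2.2.2, P.smul_right, P.σσ, P.beta_vec_ne (fun e => hab (by rw [e, opp_opp])),
    P.beta_vec, if_pos (opp_opp b).symm, div_mul_cancel₀ _ (P.sg_ne _)]
  simp only [zero_smul, add_zero, mul_zero, zero_sub]
  congr 2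
  linear_combination t * P.ε_sq

/-- An admissible partner of the left index `i`: the next left index, or the last right one in type `D`. -/
def Adm (i : Fin m) (c : Fin m × Bool) : Prop :=
  c.1.val = i.val + 1 ∧ (c.2 = true ∨ (P.D ∧ c.1.val + 1 = m))

theorem Adm.ne {i : Fin m} {c : Fin m × Bool} (h : P.Adm i c) : i ≠ c.1 := fun e => by
  have := h.1
  rw [← e] at this
  omega

/-- The four frame indices of a long simple reflection, exchanged. -/
def tau (i : Fin m) (c d : Fin m × Bool) : Fin m × Bool :=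
  if d = (i, true) then c else if d = c then (i, true) else if d = (i, false) then opp c
    else if d = opp c then (i, false) else d

/-- The plane of two frame vectors. -/
def pl (a c : Fin m × Bool) : Submodule F V := Submodule.span F (P.vec '' {a, c})

theorem pl_comm (a c : Fin m × Bool) : P.pl a c = P.pl c a := by rw [pl, pl, Set.pair_comm]

theorem ln_le_pl (a c : Fin m × Bool) : P.ln a ≤ P.pl a c := Submodule.span_mono (Set.image_mono (by simp))

theorem pl_map {g : G} {a c : Fin m × Bool} (ha : P.ρ g (P.vec a) ∈ P.pl a c) (hc : P.ρ g (P.vec c) ∈ P.pl a c)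
    {x : V} (hx : x ∈ P.pl a c) : P.ρ g x ∈ P.pl a c := by
  rw [pl] at hx
  induction hx using Submodule.span_induction with
  | mem y hy =>
    obtain ⟨d, hd | hd, rfl⟩ := hy
    · rw [hd]; exact ha
    · rw [Set.mem_singleton_iff] at hd; rw [hd]; exact hc
  | zero => rw [map_zero]; exact zero_mem _
  | add y z _ _ hy hz => rw [map_add]; exact add_mem hy hz
  | smul k y _ hy => rw [map_smul]; exact Submodule.smul_mem _ k hy

/-- In a plane, orthogonality to a frame vector kills the opposite coordinate. -/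
theorem mem_ln_of_pl {a c : Fin m × Bool} {x : V} (hac : a ≠ c) (hx : x ∈ P.pl a c)
    (h : P.β x (P.vec (opp a)) = 0) : x ∈ P.ln c := by
  obtain ⟨h1, h2⟩ := (P.mem_span_iff _ _).1 hx
  refine (P.mem_span_iff _ _).2 ⟨fun d hd => ?_, h2⟩
  by_cases e : d = a
  · rw [e]; exact h
  · exact h1 d (by simp only [Set.mem_insert_iff, Set.mem_singleton_iff, not_or]; exact ⟨e, hd⟩)

/-- The elements living on the two planes of a long root pair. -/
def twoPlanes (i : Fin m) (c : Fin m × Bool) : Subgroup G :=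
  finSubgroup {g | (∀ d, d ≠ (i, true) → d ≠ c → d ≠ (i, false) → d ≠ opp c → P.ρ g (P.vec d) = P.vec d) ∧
      (∀ x, P.W x → P.ρ g x = x) ∧
      (P.ρ g (P.vec (i, true)) ∈ P.pl (i, true) c ∧ P.ρ g (P.vec c) ∈ P.pl (i, true) c) ∧
      (P.ρ g (P.vec (i, false)) ∈ P.pl (i, false) (opp c) ∧ P.ρ g (P.vec (opp c)) ∈ P.pl (i, false) (opp c))}
    ⟨fun d _ _ _ _ => P.ρ_one _, fun x _ => P.ρ_one _,
      ⟨by rw [P.ρ_one]; exact Submodule.subset_span ⟨_, by simp, rfl⟩,
        by rw [P.ρ_one]; exact Submodule.subset_span ⟨_, by simp, rfl⟩⟩,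
      ⟨by rw [P.ρ_one]; exact Submodule.subset_span ⟨_, by simp, rfl⟩,
        by rw [P.ρ_one]; exact Submodule.subset_span ⟨_, by simp, rfl⟩⟩⟩
    (fun g h hg hh => by
      obtain ⟨g1, g2, ⟨g3, g4⟩, g5, g6⟩ := hg
      obtain ⟨h1, h2, ⟨h3, h4⟩, h5, h6⟩ := hh
      refine ⟨fun d e1 e2 e3 e4 => by rw [P.ρ_mul, h1 d e1 e2 e3 e4, g1 d e1 e2 e3 e4],
        fun x hx => by rw [P.ρ_mul, h2 x hx, g2 x hx], ⟨?_, ?_⟩, ?_, ?_⟩
      all_goals rw [P.ρ_mul]
      · exact P.pl_map g3 g4 h3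
      · exact P.pl_map g3 g4 h4
      · exact P.pl_map g5 g6 h5
      · exact P.pl_map g5 g6 h6)

theorem IsR.mem_twoPlanes {g : G} {i : Fin m} {c : Fin m × Bool} (hic : i ≠ c.1)
    (h : P.IsR g (i, true) (opp c) ∨ P.IsR g (i, false) c) : g ∈ P.twoPlanes i c := by
  have ha : ∀ d : Fin m × Bool, d.1 = i → d ≠ c ∧ d ≠ opp c := fun d hd =>
    ⟨fun e => hic (by rw [← hd, e]), fun e => hic (by rw [← hd, e]; rfl)⟩
  rcases h with h | h
  · obtain ⟨t, ht, -⟩ := h.apply_right (P := P) (by simpa [opp] using hic)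
    obtain ⟨s, hs, -⟩ := h.symm.apply_right (P := P) (by simpa [opp] using Ne.symm hic)
    rw [opp_opp] at ht
    simp only [opp, Bool.not_true] at hs
    refine ⟨fun d _ e2 e3 _ => h.apply_other (P := P) (by simpa [opp] using e3) (by rw [opp_opp]; exact e2),
      fun x hx => h.apply_W (P := P) hx, ⟨?_, ?_⟩, ?_, ?_⟩
    · rw [h.apply_other (P := P) (by simp [opp]) (by rw [opp_opp]; exact (ha _ rfl).1)]
      exact Submodule.subset_span ⟨_, by simp, rfl⟩
    · rw [ht]
      exact add_mem (Submodule.subset_span ⟨_, by simp, rfl⟩)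
        (Submodule.smul_mem _ _ (Submodule.subset_span ⟨_, by simp, rfl⟩))
    · rw [hs]
      exact add_mem (Submodule.subset_span ⟨_, by simp, rfl⟩)
        (Submodule.smul_mem _ _ (Submodule.subset_span ⟨(c.1, !c.2), by simp [opp], rfl⟩))
    · rw [h.apply_other (P := P) (d := opp c) (fun e => hic (congrArg Prod.fst e).symm) (by rw [opp_opp]; exact opp_ne c)]
      exact Submodule.subset_span ⟨_, by simp, rfl⟩
  · obtain ⟨t, ht, -⟩ := h.apply_right (P := P) (by simpa using hic)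
    obtain ⟨s, hs, -⟩ := h.symm.apply_right (P := P) (by simpa using Ne.symm hic)
    simp only [opp, Bool.not_false] at hs
    refine ⟨fun d e1 _ _ e4 => h.apply_other (P := P) (by simpa [opp] using e1) e4,
      fun x hx => h.apply_W (P := P) hx, ⟨?_, ?_⟩, ?_, ?_⟩
    · rw [hs]
      exact add_mem (Submodule.subset_span ⟨_, by simp, rfl⟩)
        (Submodule.smul_mem _ _ (Submodule.subset_span ⟨_, by simp, rfl⟩))
    · rw [h.apply_other (P := P) (fun e => hic (congrArg Prod.fst e).symm) (opp_ne c).symm]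
      exact Submodule.subset_span ⟨_, by simp, rfl⟩
    · rw [h.apply_other (P := P) (by simp [opp]) (ha _ rfl).2]
      exact Submodule.subset_span ⟨_, by simp, rfl⟩
    · rw [ht]
      exact add_mem (Submodule.subset_span ⟨_, by simp, rfl⟩)
        (Submodule.smul_mem _ _ (Submodule.subset_span ⟨_, by simp, rfl⟩))

theorem exists_long {i : Fin m} {c : Fin m × Bool} (hic : i ≠ c.1) :
    ∃ s, s ∈ P.twoPlanes i c ∧ ∀ d, P.ρ s (P.vec d) ∈ P.ln (tau i c d) := by
  have hia : ∀ s : Bool, (i, s) ≠ c ∧ (i, s) ≠ opp c := fun s =>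
    ⟨fun e => hic (congrArg Prod.fst e), fun e => hic (congrArg Prod.fst e)⟩
  obtain ⟨y, hy, hy'⟩ := P.exists_R_move (a := c) (b := (i, false)) (Ne.symm hic) (1 : F)
  obtain ⟨x, hx, hx'⟩ := P.exists_R_move (a := (i, true)) (b := opp c) hic (1 : F)
  obtain ⟨x', hxm, hxm'⟩ := P.exists_R_move (a := (i, true)) (b := opp c) hic (-1 : F)
  rw [opp_opp] at hx' hxm'
  simp only [opp, Bool.not_false, one_smul] at hy' hx'
  have hxa : ∀ g, P.IsR g (i, true) (opp c) → P.ρ g (P.vec (i, true)) = P.vec (i, true) := fun g hg =>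
    hg.apply_other (P := P) (by simp [opp]) (by rw [opp_opp]; exact (hia _).1)
  have hyc : P.ρ y (P.vec c) = P.vec c :=
    hy.apply_other (P := P) (d := c) (opp_ne c).symm (fun e => hic (congrArg Prod.fst e).symm)
  set s := x⁻¹ * y * x' with hs
  have hmem : s ∈ P.twoPlanes i c :=
    mul_mem (mul_mem (inv_mem (IsR.mem_twoPlanes (P := P) hic (Or.inl hx)))
      (IsR.mem_twoPlanes (P := P) hic (Or.inr (hy.symm (P := P)))))
      (IsR.mem_twoPlanes (P := P) hic (Or.inl hxm))
  have e1 : P.ρ s (P.vec (i, true)) = P.vec c := by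
    rw [hs, P.ρ_mul, P.ρ_mul, hxa x' hxm, hy', add_comm, ← hx', P.ρ_inv_self]
  have e2 : P.ρ s (P.vec c) = -P.vec (i, true) := by
    rw [hs, P.ρ_mul, P.ρ_mul, hxm', map_add, map_smul, hyc, hy']
    rw [show P.vec c + (-1 : F) • (P.vec (i, true) + P.vec c) = -P.vec (i, true) by module, map_neg, neg_inj]
    conv_lhs => rw [← hxa x hx]
    exact P.ρ_inv_self _ _
  refine ⟨s, hmem, fun d => ?_⟩
  obtain ⟨p1, -, -, ⟨p5, p6⟩⟩ := hmem
  have hneq : (i, false) ≠ opp c := (hia _).2
  unfold tau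
  split_ifs with d1 d2 d3 d4
  · rw [d1, e1]; exact P.vec_mem_ln c
  · rw [d2, e2, ← neg_one_smul F]; exact Submodule.smul_mem _ _ (P.vec_mem_ln _)
  · rw [d3]
    refine P.mem_ln_of_pl hneq p5 ?_
    have h := P.map s (P.vec (i, false)) (P.vec c)
    rw [e2, P.beta_vec_ne (a := (i, false)) (b := c) (fun e => hic (congrArg Prod.fst e).symm), ← neg_one_smul F,
      P.smul_right] at h
    simp only [opp, Bool.not_false]
    simpa using h
  · rw [d4]
    refine P.mem_ln_of_pl hneq.symm (by rw [P.pl_comm]; exact p6) ?_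
    have h := P.map s (P.vec (opp c)) (P.vec (i, true))
    rw [e1, P.beta_vec_ne (fun e => hic (congrArg Prod.fst e))] at h
    rw [opp_opp]; exact h
  · rw [p1 d d1 d2 d3 d4]; exact P.vec_mem_ln d

/-- The elements at the end of the frame: Siegel elements with middle parameter. -/
def IsX (g : G) (a : Fin m × Bool) : Prop := ∃ (z : V) (k : F), P.W z ∧ P.IsS g (P.vec a) z k

theorem IsX.apply_other {g : G} {a d : Fin m × Bool} (h : P.IsX g a) (hd : d ≠ opp a) :
    P.ρ g (P.vec d) = P.vec d := by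
  obtain ⟨z, k, hz, hg⟩ := h
  exact hg.apply_orth (P := P) (P.beta_vec_ne fun e => hd (by rw [e, opp_opp])) (P.W_vec' hz d)

theorem IsX.conj {g n : G} {a a' : Fin m × Bool} (h : P.IsX g a) (hn : n ∈ P.mono)
    (ha : P.ρ n (P.vec a) ∈ P.ln a') : P.IsX (n * g * n⁻¹) a' := by
  obtain ⟨z, k, hz, hg⟩ := h
  obtain ⟨c, hc0, hc⟩ := P.exists_scalar ha
  have := hg.conj (P := P) n
  rw [hc] at this
  refine ⟨_, _, P.W_iff.2 fun d => ?_, this.scale (P := P) hc0⟩
  rw [P.smul_left, P.W_vec (P.mono_W hn hz), mul_zero]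

theorem IsX.mem_uni {g : G} {i : Fin m} (h : P.IsX g (i, true)) : g ∈ P.uni := by
  obtain ⟨z, k, hz, hg⟩ := h
  exact hg.mem_uni (P := P) fun j _ => (hz j).1

theorem short_dichotomy (a : Fin m × Bool) {n : G} (hn : n ∈ P.mono) :
    (∀ g, P.IsX g a → n⁻¹ * g * n ∈ P.uni) ∨ (∀ g, P.IsX g (opp a) → n⁻¹ * g * n ∈ P.uni) := by
  obtain ⟨⟨i, s⟩, ha⟩ := (inv_mem hn : n⁻¹ ∈ P.mono) a
  have ha2 := P.mono_opp (inv_mem hn) ha
  rcases s with _ | _
  · right
    intro g hg
    have := hg.conj (P := P) (inv_mem hn) ha2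
    rw [inv_inv] at this
    exact this.mem_uni (P := P)
  · left
    intro g hg
    have := hg.conj (P := P) (inv_mem hn) ha
    rw [inv_inv] at this
    exact this.mem_uni (P := P)

/-- Moving the opposite vector inside the last plane and the middle. -/
theorem exists_X_move {a : Fin m × Bool} {v : V} (hv : P.Sing v) (hva : P.β v (P.vec a) ≠ 0)
    (hperp : ∀ d, d ≠ a → d ≠ opp a → P.β v (P.vec d) = 0) :
    ∃ (g : G) (k : F), k ≠ 0 ∧ P.IsX g a ∧ P.ρ g (P.vec (opp a)) = k • v := by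
  have hsg : P.sg a * P.sg a = 1 := by
    rcases a with ⟨i, _ | _⟩ <;> simp [sg, P.ε_sq]
  have hσ : P.σ (P.sg a) = P.sg a := by
    rcases a with ⟨i, _ | _⟩ <;> simp [sg, P.σε]
  set y := P.sg a • P.vec (opp a) with hy
  have hxy : P.β (P.vec a) y = 1 := by rw [hy, P.smul_right, hσ, P.beta_vec_opp, hsg]
  obtain ⟨g, z, k, d, hd, hgy, hg, hzy, hz⟩ :=
    P.exists_move (P.vec_sing a) (P.sing_smul _ _ (P.vec_sing _)) hxy hv hva
  refine ⟨g, P.sg a * d, mul_ne_zero (P.sg_ne a) hd, ⟨z, k, P.W_iff.2 fun b => ?_, hg⟩, ?_⟩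
  · by_cases h1 : b = a
    · rw [h1]; exact hg.2.1
    by_cases h2 : b = opp a
    · rw [h2]
      rw [P.smul_right, hσ] at hzy
      exact (mul_eq_zero.1 hzy).resolve_left (P.sg_ne a)
    · generalize z = z' at hz
      induction hz using Submodule.span_induction with
      | mem y' hy' =>
        simp only [Set.mem_insert_iff, Set.mem_singleton_iff] at hy'
        rcases hy' with e | e | e <;> subst e
        · exact P.beta_vec_ne fun e => h2 e
        · rw [P.smul_left, P.beta_vec_ne fun e => h1 (by rw [e, opp_opp]), mul_zero]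
        · exact hperp b h1 h2
      | zero => exact P.zero_left _
      | add p q _ _ hp hq => rw [P.add_left, hp, hq, add_zero]
      | smul r p _ hp => rw [P.smul_left, hp, mul_zero]
  · have h := congrArg (P.sg a • ·) hgy
    simp only [map_smul, smul_smul, hsg, one_smul] at h
    exact h

theorem exists_short (hD : ¬ P.D) (l : Fin m) :
    ∃ s, (∀ d, d ≠ (l, true) → d ≠ (l, false) → P.ρ s (P.vec d) = P.vec d) ∧
      P.ρ s (P.vec (l, true)) ∈ P.ln (l, false) ∧ P.ρ s (P.vec (l, false)) ∈ P.ln (l, true) := by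
  obtain ⟨z, hz, a0, ha0, hp⟩ := P.short hD
  obtain ⟨y, hy⟩ := P.exists_IsS (P.f_sing l) (hz l).2 hp
  have hyX : P.IsX y (l, false) := ⟨z, a0, hz, hy⟩
  have hfix : ∀ g s, P.IsX g (l, s) → ∀ d, d ≠ (l, true) → d ≠ (l, false) → P.ρ g (P.vec d) = P.vec d := by
    intro g s hg d h1 h2
    refine hg.apply_other (P := P) ?_
    cases s <;> simp [opp, h1, h2]
  set v := P.ρ y (P.e l) with hv
  have hve : P.β v (P.e l) ≠ 0 := by
    rw [hv, hy.2.2.2, P.ef, if_pos rfl, P.symm_zero (hz l).1, mul_zero,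
      P.add_left, P.add_left, P.smul_left, P.smul_left, P.ee, P.fe, if_pos rfl, (hz l).1]
    simpa using ⟨ha0, P.ε_ne⟩
  obtain ⟨x, k, hk, hx, hxf⟩ := P.exists_X_move (a := (l, true)) (P.sing_map _ _ (P.e_sing l)) hve (fun d h1 h2 => by
    rw [P.map_inv_left, ← hfix y false hyX d h1 h2, P.ρ_inv_self]
    exact P.beta_vec_ne (a := (l, true)) h2)
  simp only [opp, Bool.not_true] at hxf
  set n0 := x⁻¹ * y
  have hn0 : P.ρ n0 (P.e l) = k⁻¹ • P.f l := by
    show P.ρ (x⁻¹ * y) (P.e l) = _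
    rw [P.ρ_mul, ← hv]
    have := congrArg (P.ρ x⁻¹) hxf
    rw [P.ρ_inv_self, map_smul, P.vec_false] at this
    rw [this, smul_smul, inv_mul_cancel₀ hk, one_smul]
  have hn0d : ∀ d, d ≠ (l, true) → d ≠ (l, false) → P.ρ n0 (P.vec d) = P.vec d := fun d h1 h2 => by
    show P.ρ (x⁻¹ * y) (P.vec d) = _
    rw [P.ρ_mul, hfix y false hyX d h1 h2]
    conv_lhs => rw [← hfix x true hx d h1 h2]
    exact P.ρ_inv_self _ _
  set v2 := P.ρ n0⁻¹ (P.e l) with hv2
  have hv2e : P.β v2 (P.e l) ≠ 0 := by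
    rw [hv2, P.map_inv_left, inv_inv, hn0, P.smul_right, P.ef, if_pos rfl, mul_one]
    exact fun h => inv_ne_zero hk (by simpa [P.σσ] using congrArg P.σ h)
  obtain ⟨x', k', hk', hx', hxf'⟩ := P.exists_X_move (a := (l, true)) (P.sing_map _ _ (P.e_sing l)) hv2e
    (fun d h1 h2 => by
      rw [P.map_inv_left, inv_inv, hn0d d h1 h2]
      exact P.beta_vec_ne (a := (l, true)) h2)
  simp only [opp, Bool.not_true] at hxf'
  refine ⟨n0 * x', fun d h1 h2 => by rw [P.ρ_mul, hfix x' true hx' d h1 h2, hn0d d h1 h2], ?_, ?_⟩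
  · rw [P.ρ_mul, hx'.apply_other (P := P) (by simp [opp]), P.vec_true, hn0]
    exact Submodule.smul_mem _ _ (P.vec_mem_ln _)
  · rw [P.ρ_mul, hxf', map_smul, P.ρ_self_inv]
    exact Submodule.smul_mem _ _ (P.vec_mem_ln _)

end Polar

end Cfsg.Lib.PolarBN
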