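import Cfsg.Agent.Known.PolarBN.Simple

/-!
# The rank one steps of the Bruhat decomposition in a polar space

For a simple reflection `s` with root groups `X` and `Y`: `B = (B ∩ s⁻¹Bs)X`, `sX ⊆ BY` off the identity.
-/

set_option autoImplicit false

namespace Cfsg.Lib.PolarBN

universe u v w

variable {G : Type w} [Group G] [Finite G] {F : Type u} [Field F] {V : Type v} [AddCommGroup V] [Module F V]
variable {m : ℕ}

theorem tau_tau {i : Fin m} {c : Fin m × Bool} (hic : i ≠ c.1) (d : Fin m × Bool) :
    Polar.tau i c (Polar.tau i c d) = d := by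
  have h1 : ∀ b, c ≠ (i, b) := fun b e => hic (congrArg Prod.fst e).symm
  have h2 : ∀ b, Polar.opp c ≠ (i, b) := fun b e => hic (congrArg Prod.fst e).symm
  have h3 : Polar.opp c ≠ c := Polar.opp_ne c
  have ha : Polar.tau i c (i, true) = c := by unfold Polar.tau; rw [if_pos rfl]
  have hc : Polar.tau i c c = (i, true) := by unfold Polar.tau; rw [if_neg (h1 true), if_pos rfl]
  have ha' : Polar.tau i c (i, false) = Polar.opp c := by
    unfold Polar.tau; rw [if_neg (by simp), if_neg (h1 false).symm, if_pos rfl]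
  have hc' : Polar.tau i c (Polar.opp c) = (i, false) := by
    unfold Polar.tau; rw [if_neg (h2 true), if_neg h3, if_neg (h2 false), if_pos rfl]
  by_cases e1 : d = (i, true)
  · rw [e1, ha, hc]
  by_cases e2 : d = c
  · rw [e2, hc, ha]
  by_cases e3 : d = (i, false)
  · rw [e3, ha', hc']
  by_cases e4 : d = Polar.opp c
  · rw [e4, hc', ha']
  have hd : Polar.tau i c d = d := by unfold Polar.tau; rw [if_neg e1, if_neg e2, if_neg e3, if_neg e4]
  rw [hd, hd]

theorem opp_injective {a b : Fin m × Bool} (h : Polar.opp a = Polar.opp b) : a = b := by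
  rw [← Polar.opp_opp a, h, Polar.opp_opp]

namespace Polar

variable (P : Polar G F V m)
include P

theorem sing_span {A : Set (Fin m × Bool)} (hA : ∀ a ∈ A, opp a ∉ A) {x : V}
    (hx : x ∈ Submodule.span F (P.vec '' A)) : P.Sing x ∧ ∀ a ∈ A, P.β x (P.vec a) = 0 := by
  have orth : ∀ y ∈ Submodule.span F (P.vec '' A), ∀ a ∈ A, P.β y (P.vec a) = 0 := fun y hy a ha => by
    have := ((P.mem_span_iff _ _).1 hy).1 (opp a) (hA a ha)
    rwa [opp_opp] at this
  refine ⟨?_, orth x hx⟩
  induction hx using Submodule.span_induction with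
  | mem y hy =>
    obtain ⟨a, -, rfl⟩ := hy
    exact P.vec_sing a
  | zero => exact P.sing_zero
  | add y z hy hz iy iz =>
    refine P.sing_add y z iy iz ?_
    revert hz
    generalize z = z'
    intro hz
    induction hz using Submodule.span_induction with
    | mem w hw => obtain ⟨a, ha, rfl⟩ := hw; exact orth y hy a ha
    | zero => exact P.zero_right _
    | add p q _ _ hp hq => rw [P.add_right, hp, hq, add_zero]
    | smul c p _ hp => rw [P.smul_right, hp, mul_zero]
  | smul c y _ hy => exact P.sing_smul c y hy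

/-- In the hyperbolic case a singular vector in a hyperbolic pair over a totally singular space is on one side. -/
theorem coeff_zero (hD : P.D) {A : Set (Fin m × Bool)} (hA : ∀ a ∈ A, opp a ∉ A) {l : Fin m}
    (hl : ∀ a ∈ A, a.1 ≠ l) {v : V} (hv : P.Sing v) (s : Bool)
    (hsupp : v ∈ Submodule.span F (P.vec '' (A ∪ {(l, true), (l, false)})))
    (hne : P.β v (P.vec (l, s)) ≠ 0) : P.β v (P.vec (l, !s)) = 0 := by
  obtain ⟨h1, h2⟩ := (P.mem_span_iff _ _).1 hsupp
  set c1 := P.β v (P.f l)
  set c2 := P.ε * P.β v (P.e l)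
  set r := v - (c1 • P.e l + c2 • P.f l) with hr
  have hpair : ∀ d : Fin m × Bool, d.1 ≠ l →
      P.β (c1 • P.e l + c2 • P.f l) (P.vec d) = 0 := by
    intro d hd
    rw [P.add_left, P.smul_left, P.smul_left, show P.e l = P.vec (l, true) from rfl,
      show P.f l = P.vec (l, false) from rfl,
      P.beta_vec_ne (fun e => hd (congrArg Prod.fst e)), P.beta_vec_ne (fun e => hd (congrArg Prod.fst e))]
    ring
  have hrA : r ∈ Submodule.span F (P.vec '' A) := by
    refine (P.mem_span_iff _ _).2 ⟨fun a ha => ?_, fun w hw => ?_⟩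
    · by_cases hal : a.1 = l
      · obtain ⟨j, b⟩ := a
        simp only at hal
        subst hal
        rw [hr, P.sub_left, P.add_left, P.smul_left, P.smul_left]
        cases b
        · simp [opp, vec, P.ee, P.fe, c2]
          linear_combination (-P.β v (P.e j)) * P.ε_sq
        · simp [opp, vec, P.ef, P.ff, c1]
      · rw [hr, P.sub_left, hpair (opp a) hal, sub_zero]
        refine h1 a ?_
        simp only [Set.mem_union, Set.mem_insert_iff, Set.mem_singleton_iff, not_or]
        exact ⟨ha, fun e => hal (by rw [e]), fun e => hal (by rw [e])⟩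
    · rw [hr, P.sub_left, P.add_left, P.smul_left, P.smul_left, h2 w hw,
        show P.e l = P.vec (l, true) from rfl, show P.f l = P.vec (l, false) from rfl, P.W_vec' hw, P.W_vec' hw]
      ring
  obtain ⟨hrs, -⟩ := P.sing_span hA hrA
  have hvA : ∀ a ∈ A, P.β v (P.vec a) = 0 := fun a ha => by
    have := h1 (opp a) (by
      simp only [Set.mem_union, Set.mem_insert_iff, Set.mem_singleton_iff, not_or]
      exact ⟨hA a ha, fun e => hl a ha (congrArg Prod.fst e), fun e => hl a ha (congrArg Prod.fst e)⟩)
    rwa [opp_opp] at this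
  have hvr : P.β v r = 0 := by
    revert hrA
    generalize r = r'
    intro hrA
    induction hrA using Submodule.span_induction with
    | mem y hy => obtain ⟨a, ha, rfl⟩ := hy; exact hvA a ha
    | zero => exact P.zero_right _
    | add p q _ _ hp hq => rw [P.add_right, hp, hq, add_zero]
    | smul c p _ hp => rw [P.smul_right, hp, mul_zero]
  have hys : P.Sing (c1 • P.e l + c2 • P.f l) := by
    have := P.sing_add v ((-1 : F) • r) hv (P.sing_smul _ _ hrs) (by rw [P.smul_right, hvr, mul_zero])
    rwa [show v + (-1 : F) • r = c1 • P.e l + c2 • P.f l by rw [hr]; module] at this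
  have h12 : c1 * c2 = 0 := by
    by_cases hc : c2 = 0
    · rw [hc, mul_zero]
    have h0 := P.sing_smul c2⁻¹ _ hys
    rw [smul_add, smul_smul, smul_smul, inv_mul_cancel₀ hc, one_smul] at h0
    have hp := P.par_of (P.e l) (P.f l) 0 (c2⁻¹ * c1) (P.e_sing l) (P.f_sing l) (by rw [P.ef, if_pos rfl])
      (P.zero_left _) (P.zero_left _) (by rwa [add_zero, add_comm])
    rw [smul_zero] at hp
    have := P.noPar hD _ hp
    rw [mul_eq_zero, mul_eq_zero, inv_eq_zero] at this
    rcases this with h | h | h
    · exact absurd h P.ε_ne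
    · exact absurd h hc
    · rw [h, zero_mul]
  cases s
  · exact (mul_eq_zero.1 h12).elim (fun h => absurd h hne) fun h => (mul_eq_zero.1 h).resolve_left P.ε_ne
  · exact (mul_eq_zero.1 h12).elim id fun h => absurd ((mul_eq_zero.1 h).resolve_left P.ε_ne) hne

/-- The left indices below `i`. -/
def below (i : ℕ) : Set (Fin m × Bool) := {a | a.2 = true ∧ a.1.val < i}

theorem Fl_eq (i : ℕ) : P.Fl i = Submodule.span F (P.vec '' below i) := rfl

/-- `B = (B ∩ s⁻¹ B s) X` at a long root. -/
theorem long_split {i : Fin m} {c : Fin m × Bool} (h : P.Adm i c) {s : G}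
    (hs : ∀ d, P.ρ s (P.vec d) ∈ P.ln (tau i c d)) {g : G} (hg : g ∈ P.bor) :
    ∃ x, P.IsR x (i, true) (opp c) ∧ s * (g * x) * s⁻¹ ∈ P.bor := by
  have hic : i ≠ c.1 := h.ne
  have hci : i.val < c.1.val := by have := h.1; omega
  have key : ∀ v d, v ∈ Submodule.span F (P.vec '' (below i.val ∪ {(i, true), c})) →
      d ≠ opp c → d ≠ (i, false) → (d.2 = true ∨ i.val ≤ d.1.val) → P.β v (P.vec d) = 0 := by
    intro v d hv h1 h2 h3
    have := ((P.mem_span_iff _ _).1 hv).1 (opp d) (by
      simp only [below, Set.mem_union, Set.mem_setOf_eq, Set.mem_insert_iff, Set.mem_singleton_iff, not_or]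
      refine ⟨fun e => ?_, fun e => h2 ?_, fun e => h1 (by rw [← e, opp_opp])⟩
      · simp only [opp] at e
        rcases h3 with h3 | h3
        · rw [h3] at e; simp at e
        · omega
      · rw [← opp_opp d, e]; rfl)
    rwa [opp_opp] at this
  have hgc : P.ρ g (P.vec c) ∈ Submodule.span F (P.vec '' (below i.val ∪ {(i, true), c})) := by
    rcases h.2 with hc | ⟨hD, hm⟩
    · obtain ⟨j, b⟩ := c
      simp only at hc
      subst hc
      refine Submodule.span_mono (Set.image_mono ?_) (show P.ρ g (P.vec (j, true)) ∈ Submodule.span F _ from hg j)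
      rintro ⟨l, b⟩ ⟨hb, hl⟩
      simp only at hb hl hci
      subst hb
      have hj := h.1
      simp only at hj
      rcases Nat.lt_or_ge l.val i.val with hli | hli
      · left; exact ⟨rfl, hli⟩
      · right
        rcases hli.lt_or_eq with hlt | heq
        · right
          rw [Set.mem_singleton_iff, Prod.mk.injEq]
          exact ⟨Fin.ext (by omega), rfl⟩
        · left
          rw [Prod.mk.injEq]
          exact ⟨Fin.ext heq.symm, rfl⟩
    · obtain ⟨j, b⟩ := c
      simp only at hm hci
      cases b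
      swap
      · refine Submodule.span_mono (Set.image_mono ?_) (show P.ρ g (P.vec (j, true)) ∈ Submodule.span F _ from hg j)
        rintro ⟨l, b⟩ ⟨hb, hl⟩
        simp only at hb hl
        subst hb
        have hj := h.1
        simp only at hj
        rcases Nat.lt_or_ge l.val i.val with hli | hli
        · left; exact ⟨rfl, hli⟩
        · right
          rcases hli.lt_or_eq with hlt | heq
          · right
            rw [Set.mem_singleton_iff, Prod.mk.injEq]
            exact ⟨Fin.ext (by omega), rfl⟩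
          · left
            rw [Prod.mk.injEq]
            exact ⟨Fin.ext heq.symm, rfl⟩
      set v := P.ρ g (P.vec (j, false))
      have horth : ∀ l : Fin m, l.val < j.val → P.β v (P.e l) = 0 := fun l hl =>
        P.bor_perp hg (k := j.val) (fun l' hl' => by
          rw [show P.e l' = P.vec (l', true) from rfl, P.beta_vec_ne]
          simp only [opp, Bool.not_false, ne_eq, Prod.mk.injEq, and_true]
          exact fun e => by omega) l hl
      have hsupp : v ∈ Submodule.span F (P.vec '' ({a : Fin m × Bool | a.2 = true ∧ a.1 ≠ j} ∪ {(j, true), (j, false)})) := by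
        refine (P.mem_span_iff _ _).2 ⟨fun a ha => ?_, fun w hw => ?_⟩
        · obtain ⟨l, b⟩ := a
          simp only [Set.mem_union, Set.mem_setOf_eq, Set.mem_insert_iff, Set.mem_singleton_iff, Prod.mk.injEq,
            not_or, not_and] at ha
          cases b
          · simp only [opp, Bool.not_false, P.vec_true]
            refine horth l ?_
            have h3 : l ≠ j := fun e => ha.2.2 e rfl
            have := Fin.val_ne_of_ne h3
            omega
          · exact absurd rfl (fun e => ha.2.1 (not_not.1 (fun e' => ha.1 e e')) rfl)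
        · rw [P.noMid hD w hw, P.zero_right]
      have hne : P.β v (P.vec (j, true)) ≠ 0 := by
        intro h0
        have h1 := P.bor_perp (inv_mem hg) (k := j.val + 1) (x := v) (fun l hl => by
          rcases (Nat.lt_succ_iff.1 hl).lt_or_eq with hl | hl
          · exact horth l hl
          · rw [Fin.ext hl]; exact h0) j (Nat.lt_succ_self _)
        rw [P.ρ_inv_self, P.vec_false, P.fe, if_pos rfl] at h1
        exact P.ε_ne h1
      have hzero := P.coeff_zero hD (A := {a | a.2 = true ∧ a.1 ≠ j}) (fun a ha h' => by simp [opp, ha.1] at h')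
        (fun a ha => ha.2) (l := j) (P.sing_map g _ (P.vec_sing _)) true hsupp hne
      refine (P.mem_span_iff _ _).2 ⟨fun a ha => ?_, fun w hw => by rw [P.noMid hD w hw, P.zero_right]⟩
      obtain ⟨l, b⟩ := a
      simp only [below, Set.mem_union, Set.mem_setOf_eq, Set.mem_insert_iff, Set.mem_singleton_iff, Prod.mk.injEq,
        not_or, not_and] at ha
      have hj := h.1
      simp only at hj
      cases b
      · simp only [opp, Bool.not_false, P.vec_true]
        by_cases e : l = j
        · exact absurd rfl (ha.2.2 e)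
        · exact horth l (by have := Fin.val_ne_of_ne e; omega)
      · simp only [opp, Bool.not_true]
        by_cases e : l = j
        · rw [e]; exact hzero
        · exfalso
          have h3 := Fin.val_ne_of_ne e
          have h4 : l ≠ i := fun e' => ha.2.1 e' rfl
          have h5 := Fin.val_ne_of_ne h4
          have h6 := ha.1 rfl
          omega
  set d := P.β (P.ρ g (P.e i)) (P.f i) with hd
  have hd0 : d ≠ 0 := P.bor_coeff_ne hg i
  obtain ⟨x, hx, hxc⟩ := P.exists_R_move (a := (i, true)) (b := opp c) (by simpa [opp] using hic)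
    (-(P.β (P.ρ g (P.vec c)) (P.f i)) / d)
  rw [opp_opp] at hxc
  refine ⟨x, hx, ?_⟩
  set g' := g * x with hg'
  have hxB : x ∈ P.bor := by
    refine P.uni_le_bor (hx.mem_uni_of_left (P := P) rfl (Or.inr ?_))
    show i.val ≤ (opp c).1.val
    simp only [opp]
    omega
  have hg'B : g' ∈ P.bor := mul_mem hg hxB
  have hgc' : P.ρ g' (P.vec c) ∈ Submodule.span F (P.vec '' (below i.val ∪ {c})) := by
    have e : P.ρ g' (P.vec c) = P.ρ g (P.vec c) + (-(P.β (P.ρ g (P.vec c)) (P.f i)) / d) • P.ρ g (P.e i) := by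
      rw [hg', P.ρ_mul, hxc, map_add, map_smul]; rfl
    have hmem : P.ρ g' (P.vec c) ∈ Submodule.span F (P.vec '' (below i.val ∪ {(i, true), c})) := by
      rw [e]
      refine add_mem hgc (Submodule.smul_mem _ _ ?_)
      refine Submodule.span_mono (Set.image_mono ?_) (show P.ρ g (P.e i) ∈ Submodule.span F _ from hg i)
      rintro ⟨l, b⟩ ⟨hb, hl⟩
      simp only at hb hl
      subst hb
      rcases Nat.lt_or_ge l.val i.val with hli | hli
      · left; exact ⟨rfl, hli⟩
      · right; left
        rw [Prod.mk.injEq]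
        exact ⟨Fin.ext (by omega), rfl⟩
    refine (P.mem_span_iff _ _).2 ⟨fun a ha => ?_, ((P.mem_span_iff _ _).1 hmem).2⟩
    by_cases e' : a = (i, true)
    · rw [e']
      show P.β _ (P.f i) = 0
      rw [e, P.add_left, P.smul_left, ← hd, div_mul_cancel₀ _ hd0]
      ring
    · refine ((P.mem_span_iff _ _).1 hmem).1 a ?_
      simp only [Set.mem_union, Set.mem_insert_iff, Set.mem_singleton_iff, not_or] at ha ⊢
      exact ⟨ha.1, e', ha.2⟩
  intro k
  set dk := tau i c (k, true) with hdk
  have htau : tau i c dk = (k, true) := tau_tau hic _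
  obtain ⟨r, hr0, hr⟩ := P.exists_scalar (hs dk)
  rw [htau, P.vec_true] at hr
  have hsk : P.ρ s⁻¹ (P.e k) = r⁻¹ • P.vec dk := by
    have := congrArg (P.ρ s⁻¹) hr
    rw [P.ρ_inv_self, map_smul] at this
    rw [this, smul_smul, inv_mul_cancel₀ hr0, one_smul]
  rw [P.ρ_mul, P.ρ_mul, hsk, map_smul, map_smul]
  refine Submodule.smul_mem _ _ ?_
  have himg : ∀ A : Set (Fin m × Bool), (∀ a ∈ A, tau i c a ∈ below (m := m) (k.val + 1)) →
      ∀ v ∈ Submodule.span F (P.vec '' A), P.ρ s v ∈ P.Fl (k.val + 1) := by
    intro A hA v hv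
    induction hv using Submodule.span_induction with
    | mem y hy =>
      obtain ⟨a, ha, rfl⟩ := hy
      obtain ⟨r', hr'⟩ := P.mem_ln.1 (hs a)
      rw [← hr']
      exact Submodule.smul_mem _ _ (Submodule.subset_span ⟨_, hA a ha, rfl⟩)
    | zero => rw [map_zero]; exact zero_mem _
    | add y z _ _ hy hz => rw [map_add]; exact add_mem hy hz
    | smul t y _ hy => rw [map_smul]; exact Submodule.smul_mem _ t hy
  have hlow : ∀ a ∈ below (m := m) i.val, tau i c a = a := by
    rintro ⟨l, b⟩ ⟨hb, hl⟩
    simp only at hb hl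
    subst hb
    have h1 : (l, true) ≠ (i, true) := by simp [Prod.mk.injEq]; exact fun e => by omega
    have h2 : (l, true) ≠ (i, false) := by simp
    have h3 : (l, true) ≠ c := fun e => by rw [← e] at hci; simp only at hci; omega
    have h4 : (l, true) ≠ opp c := fun e => by
      have := congrArg (fun p : Fin m × Bool => p.1.val) e
      simp only [opp] at this
      omega
    simp [tau, h1, h2, h3, h4]
  by_cases hki : k.val < i.val
  · rw [show dk = (k, true) from hlow _ ⟨rfl, hki⟩]
    refine himg (below (k.val + 1)) (fun a ha => ?_) _ (hg'B k)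
    rwa [hlow a ⟨ha.1, lt_of_lt_of_le ha.2 (by omega)⟩]
  by_cases hki' : k = i
  · subst hki'
    rw [show dk = c by simp [hdk, tau]]
    refine himg _ (fun a ha => ?_) _ hgc'
    rcases ha with ha | ha
    · rw [hlow a ha]; exact ⟨ha.1, ha.2.trans (Nat.lt_succ_self _)⟩
    · rw [Set.mem_singleton_iff] at ha
      rw [ha, show tau k c c = (k, true) by
        have : c ≠ (k, true) := fun e => hic (by rw [e])
        simp [tau, this]]
      exact ⟨rfl, Nat.lt_succ_self _⟩
  have hki2 : i.val + 1 ≤ k.val := by have := Fin.val_ne_of_ne hki'; omega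
  rcases h.2 with hc | ⟨hD, hm⟩
  · obtain ⟨j, b⟩ := c
    simp only at hc
    subst hc
    have hj := h.1
    simp only at hj
    have hfix : ∀ a ∈ below (m := m) (k.val + 1), tau i (j, true) a ∈ below (m := m) (k.val + 1) := by
      rintro ⟨l, b⟩ ⟨hb, hl⟩
      simp only at hb hl
      subst hb
      simp only [tau, opp, Prod.mk.injEq, and_true, Bool.true_eq_false, and_false, if_false, below,
        Bool.not_true, Set.mem_setOf_eq]
      split_ifs with e1 e2
      · exact ⟨rfl, by simp only; omega⟩
      · exact ⟨rfl, by simp only; omega⟩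
      · exact ⟨rfl, hl⟩
    refine himg _ hfix _ ?_
    by_cases hkj : k = j
    · rw [show dk = (i, true) by simp [hdk, tau, hkj, Ne.symm hic]]
      exact P.Fl_mono (by omega) (hg'B i)
    · rw [show dk = (k, true) by simp [hdk, tau, opp, hki', hkj]]
      exact hg'B k
  · obtain ⟨j, b⟩ := c
    simp only at hm
    have hj := h.1
    simp only at hj
    have hkj : k = j := Fin.ext (by omega)
    subst hkj
    cases b
    swap
    · rw [show dk = (i, true) by simp [hdk, tau, hki']]
      refine himg (below (i.val + 1)) ?_ _ (hg'B i)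
      rintro ⟨l, b⟩ ⟨hb, hl⟩
      simp only at hb hl
      subst hb
      simp only [tau, opp, Prod.mk.injEq, and_true, Bool.true_eq_false, and_false, if_false, below,
        Bool.not_true, Set.mem_setOf_eq]
      split_ifs with e1 e2
      · exact ⟨rfl, by simp only; omega⟩
      · exact ⟨rfl, by simp only; omega⟩
      · exact ⟨rfl, by omega⟩
    rw [show dk = (i, false) by simp [hdk, tau, opp, hki']]
    set v := P.ρ g' (P.vec (i, false))
    have horth : ∀ l : Fin m, l.val < i.val → P.β v (P.e l) = 0 := fun l hl =>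
      P.bor_perp hg'B (k := i.val) (fun l' hl' => by
        rw [show P.e l' = P.vec (l', true) from rfl, P.beta_vec_ne]
        simp only [opp, Bool.not_false, ne_eq, Prod.mk.injEq, and_true]
        exact fun e => by omega) l hl
    have hvc : ∀ d, (∀ a ∈ below (m := m) i.val, P.β v (P.vec a) = 0) → d ∈ below (m := m) i.val ∪ {(k, false)} →
        P.β v (P.vec d) = 0 := by
      intro d hlow' hd
      rcases hd with hd | hd
      · exact hlow' d hd
      rw [Set.mem_singleton_iff] at hd
      subst hd
      have h0 : P.β v (P.ρ g' (P.vec (k, false))) = 0 := by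
        rw [P.map, P.beta_vec_ne]; simp [opp]
      obtain ⟨r0, hr00, hrest⟩ : ∃ r0 : F, r0 ≠ 0 ∧
          P.ρ g' (P.vec (k, false)) - r0 • P.vec (k, false) ∈ P.Fl i.val := by
        refine ⟨P.ε * P.β (P.ρ g' (P.vec (k, false))) (P.e k), mul_ne_zero P.ε_ne ?_, ?_⟩
        · intro hz
          have h1 := P.bor_perp (inv_mem hg'B) (k := k.val + 1) (x := P.ρ g' (P.vec (k, false))) (fun l hl => by
            rcases (Nat.lt_succ_iff.1 hl).lt_or_eq with hl | hl
            · refine key _ (l, true) (Submodule.span_mono (Set.image_mono ?_) hgc') ?_ (by simp) (Or.inl rfl)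
              · exact Set.union_subset_union_right _ (by simp)
              · simp only [opp, Bool.not_false, ne_eq, Prod.mk.injEq, and_true]
                exact fun e => by omega
            · rw [Fin.ext hl]; exact hz) k (Nat.lt_succ_self _)
          rw [P.ρ_inv_self, P.vec_false, P.fe, if_pos rfl] at h1
          exact P.ε_ne h1
        · rw [Fl_eq]
          obtain ⟨h1, h2⟩ := (P.mem_span_iff _ _).1 hgc'
          refine (P.mem_span_iff _ _).2 ⟨fun a ha => ?_, fun w hw => by rw [P.noMid hD w hw, P.zero_right]⟩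
          rw [P.sub_left, P.smul_left]
          by_cases e : a = (k, false)
          · rw [e]
            simp only [opp, Bool.not_false, P.vec_true, P.vec_false, P.fe, if_true]
            linear_combination (-P.β (P.ρ g' (P.f k)) (P.e k)) * P.ε_sq
          · rw [h1 a (by simp only [Set.mem_union, Set.mem_singleton_iff, not_or]; exact ⟨ha, e⟩),
              P.beta_vec_ne (fun e' => e (by rw [← opp_opp a, e', opp_opp]))]
            ring
      have h1 : P.β v (P.ρ g' (P.vec (k, false)) - r0 • P.vec (k, false)) = 0 := by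
        revert hrest
        generalize P.ρ g' (P.vec (k, false)) - r0 • P.vec (k, false) = y
        intro hy
        rw [Fl_eq] at hy
        induction hy using Submodule.span_induction with
        | mem y' hy' => obtain ⟨a, ha, rfl⟩ := hy'; exact hlow' a ha
        | zero => exact P.zero_right _
        | add p q _ _ hp hq => rw [P.add_right, hp, hq, add_zero]
        | smul c p _ hp => rw [P.smul_right, hp, mul_zero]
      rw [sub_eq_add_neg, P.add_right, h0, zero_add, ← neg_smul, P.smul_right, map_neg] at h1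
      exact (mul_eq_zero.1 h1).resolve_left (neg_ne_zero.2 fun e => hr00 (by
        have := congrArg P.σ e; rwa [P.σσ, map_zero] at this))
    have hlow' : ∀ a ∈ below (m := m) i.val, P.β v (P.vec a) = 0 := by
      rintro ⟨l, b⟩ ⟨hb, hl⟩
      simp only at hb hl
      subst hb
      exact horth l hl
    have hvk : P.β v (P.vec (k, false)) = 0 := hvc _ hlow' (Or.inr rfl)
    set A : Set (Fin m × Bool) := below i.val ∪ {(k, false)}
    have hA : ∀ a ∈ A, opp a ∉ A := by
      rintro ⟨l, b⟩ ha hb'
      simp only [A, below, Set.mem_union, Set.mem_setOf_eq, Set.mem_singleton_iff, opp, Prod.mk.injEq] at ha hb'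
      rcases ha with ⟨rfl, hl⟩ | ⟨rfl, rfl⟩
      · rcases hb' with ⟨hb', -⟩ | ⟨rfl, -⟩
        · simp at hb'
        · omega
      · rcases hb' with ⟨-, hl⟩ | ⟨-, hb'⟩
        · omega
        · simp at hb'
    have hsupp : v ∈ Submodule.span F (P.vec '' (A ∪ {(i, true), (i, false)})) := by
      refine (P.mem_span_iff _ _).2 ⟨fun a ha => ?_, fun w hw => by rw [P.noMid hD w hw, P.zero_right]⟩
      obtain ⟨l, b⟩ := a
      simp only [A, below, Set.mem_union, Set.mem_setOf_eq, Set.mem_insert_iff, Set.mem_singleton_iff,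
        Prod.mk.injEq, not_or, not_and] at ha
      obtain ⟨⟨h1, h2⟩, h3, h4⟩ := ha
      cases b
      · simp only [opp, Bool.not_false, P.vec_true]
        refine horth l ?_
        have h5 : l ≠ k := fun e => h2 e rfl
        have h6 : l ≠ i := fun e => h4 e rfl
        have := Fin.val_ne_of_ne h5
        have := Fin.val_ne_of_ne h6
        omega
      · simp only [opp, Bool.not_true]
        have h6 : l ≠ i := fun e => h3 e rfl
        have := Fin.val_ne_of_ne h6
        have := h1 rfl
        have h7 : l = k := Fin.ext (by omega)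
        rw [h7]; exact hvk
    have hne : P.β v (P.vec (i, true)) ≠ 0 := by
      intro h0
      have h1 := P.bor_perp (inv_mem hg'B) (k := i.val + 1) (x := v) (fun l hl => by
        rcases (Nat.lt_succ_iff.1 hl).lt_or_eq with hl | hl
        · exact horth l hl
        · rw [Fin.ext hl]; exact h0) i (Nat.lt_succ_self _)
      rw [P.ρ_inv_self, P.vec_false, P.fe, if_pos rfl] at h1
      exact P.ε_ne h1
    have hzero := P.coeff_zero hD (A := A) hA (l := i) (fun a ha e => by
      rcases ha with ⟨-, hl⟩ | ha
      · rw [e] at hl; omega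
      · rw [Set.mem_singleton_iff] at ha; rw [ha] at e; exact hki' e) (P.sing_map g' _ (P.vec_sing _)) true hsupp hne
    refine himg (A ∪ {(i, false)}) (fun a ha => ?_) _ ((P.mem_span_iff _ _).2
      ⟨fun a ha => ?_, fun w hw => by rw [P.noMid hD w hw, P.zero_right]⟩)
    · rcases ha with (ha | ha) | ha
      · rw [hlow a ha]; exact ⟨ha.1, by have := ha.2; omega⟩
      · rw [Set.mem_singleton_iff] at ha
        subst ha
        rw [show tau i (k, false) (k, false) = (i, true) by simp [tau]]
        exact ⟨rfl, by simp only; omega⟩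
      · rw [Set.mem_singleton_iff] at ha
        subst ha
        rw [show tau i (k, false) (i, false) = (k, true) by simp [tau, opp, Ne.symm hki']]
        exact ⟨rfl, by simp only; omega⟩
    · by_cases e : a = (i, true)
      · rw [e]; exact hzero
      · simp only [Set.mem_union, Set.mem_singleton_iff, not_or] at ha
        refine ((P.mem_span_iff _ _).1 hsupp).1 a ?_
        simp only [Set.mem_union, Set.mem_insert_iff, Set.mem_singleton_iff, not_or]
        exact ⟨ha.1, e, ha.2⟩

/-- `sX ⊆ BY` off the identity at a long root. -/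
theorem long_step {i : Fin m} {c : Fin m × Bool} (h : P.Adm i c) {s : G} (hs2 : s ∈ P.twoPlanes i c)
    (hs : ∀ d, P.ρ s (P.vec d) ∈ P.ln (tau i c d)) {x : G} (hx : P.IsR x (i, true) (opp c)) :
    x = 1 ∨ ∃ y, P.IsR y (i, false) c ∧ s * x⁻¹ * y ∈ P.bor := by
  have hic : i ≠ c.1 := h.ne
  obtain ⟨t, ht, ht0⟩ := hx.apply_right (P := P) (by simpa [opp] using hic)
  rw [opp_opp] at ht
  by_cases h0 : t = 0
  · left; exact P.eq_one_of_fix (ht0 h0)
  right
  obtain ⟨y, hy, hy'⟩ := P.exists_R_move (a := c) (b := (i, false)) (Ne.symm hic) t⁻¹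
  simp only [opp, Bool.not_false] at hy'
  refine ⟨y, hy.symm (P := P), ?_⟩
  set z := s * x⁻¹ * y
  have hz : z ∈ P.twoPlanes i c := mul_mem (mul_mem hs2 (inv_mem (IsR.mem_twoPlanes (P := P) hic (Or.inl hx))))
    (IsR.mem_twoPlanes (P := P) hic (Or.inr (hy.symm (P := P))))
  have hia : ∀ b : Bool, (i, b) ≠ c ∧ (i, b) ≠ opp c := fun b =>
    ⟨fun e => hic (congrArg Prod.fst e), fun e => hic (congrArg Prod.fst e)⟩
  have hza : P.ρ z (P.vec (i, true)) ∈ P.ln (i, true) := by
    show P.ρ (s * x⁻¹ * y) (P.vec (i, true)) ∈ _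
    rw [P.ρ_mul, P.ρ_mul, hy', show P.vec (i, true) + t⁻¹ • P.vec c = t⁻¹ • (P.vec c + t • P.vec (i, true)) by
      rw [smul_add, smul_smul, inv_mul_cancel₀ h0, one_smul, add_comm], ← ht, map_smul, map_smul, P.ρ_inv_self]
    refine Submodule.smul_mem _ _ ?_
    have := hs c
    rwa [show tau i c c = (i, true) by simp [tau, Ne.symm (hia true).1]] at this
  obtain ⟨z1, -, ⟨-, z4⟩, -, z6⟩ := hz
  intro k
  by_cases hk : k = i
  · subst hk
    obtain ⟨r, hr⟩ := P.mem_ln.1 hza
    rw [show P.ρ z (P.e k) = r • P.vec (k, true) from hr.symm]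
    exact Submodule.smul_mem _ _ (P.e_mem_Fl (Nat.lt_succ_self _))
  by_cases hkc : (k, true) = c
  · have h1 : k.val = i.val + 1 := by rw [← h.1, ← hkc]
    have := z4
    rw [← hkc] at this
    refine Submodule.span_mono (Set.image_mono ?_) (show P.ρ z (P.e k) ∈ Submodule.span F _ from this)
    rintro a (ha | ha)
    · subst ha; exact ⟨rfl, by simp only; omega⟩
    · rw [Set.mem_singleton_iff] at ha; subst ha; exact ⟨rfl, by simp only; omega⟩
  by_cases hkc' : (k, true) = opp c
  · have h2 : P.ρ z (P.vec (opp c)) ∈ P.ln (opp c) := by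
      refine P.mem_ln_of_pl (hia false).2 z6 ?_
      obtain ⟨r, hr0, hr⟩ := P.exists_scalar hza
      have := P.map z (P.vec (opp c)) (P.vec (i, true))
      rw [hr, P.smul_right, P.beta_vec_ne (fun e => hic (congrArg Prod.fst e))] at this
      simp only [opp, Bool.not_false]
      refine (mul_eq_zero.1 this).resolve_left fun e => hr0 ?_
      have := congrArg P.σ e
      rwa [P.σσ, map_zero] at this
    rw [← hkc'] at h2
    obtain ⟨r, hr⟩ := P.mem_ln.1 h2
    rw [show P.ρ z (P.e k) = r • P.vec (k, true) from hr.symm]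
    exact Submodule.smul_mem _ _ (P.e_mem_Fl (Nat.lt_succ_self _))
  have := z1 (k, true) (by simpa using hk) hkc (by simp) hkc'
  rw [show P.ρ z (P.e k) = P.e k from this]
  exact P.e_mem_Fl (Nat.lt_succ_self _)

/-- `B = (B ∩ s⁻¹ B s) X` at the short root. -/
theorem short_split {l : Fin m} (hl : l.val + 1 = m) {s : G}
    (hs : ∀ d, d ≠ (l, true) → d ≠ (l, false) → P.ρ s (P.vec d) = P.vec d)
    (hs1 : P.ρ s (P.vec (l, true)) ∈ P.ln (l, false)) (hs2 : P.ρ s (P.vec (l, false)) ∈ P.ln (l, true))
    {g : G} (hg : g ∈ P.bor) : ∃ x, P.IsX x (l, true) ∧ s * (g * x) * s⁻¹ ∈ P.bor := by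
  set v0 := P.ρ g⁻¹ (P.f l) with hv0
  have horth : ∀ k : Fin m, k.val < l.val → P.β v0 (P.e k) = 0 := fun k hk =>
    P.bor_perp (inv_mem hg) (k := l.val) (fun k' hk' => by
      rw [P.fe, if_neg fun e : l = k' => by omega]) k hk
  have hne : P.β v0 (P.e l) ≠ 0 := by
    intro h0
    have h1 := P.bor_perp hg (k := l.val + 1) (x := v0) (fun k hk => by
      rcases (Nat.lt_succ_iff.1 hk).lt_or_eq with hk | hk
      · exact horth k hk
      · rw [Fin.ext hk]; exact h0) l (Nat.lt_succ_self _)
    rw [hv0, P.ρ_self_inv, P.fe, if_pos rfl] at h1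
    exact P.ε_ne h1
  set A : Set (Fin m × Bool) := below l.val
  set r := ∑ k : Fin m with k.val < l.val, (P.β v0 (P.f k)) • P.e k with hr
  have hrA : r ∈ P.Fl l.val :=
    Submodule.sum_mem _ fun k hk => Submodule.smul_mem _ _ (P.e_mem_Fl (Finset.mem_filter.1 hk).2)
  have hrv : P.β v0 r = 0 := by
    rw [hr, P.sum_right]
    exact Finset.sum_eq_zero fun k hk => by rw [P.smul_right, horth k (Finset.mem_filter.1 hk).2, mul_zero]
  have hrs : P.Sing r := (P.sing_span (fun a ha h' => by simp [below, opp, ha.1] at h') hrA).1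
  set v := v0 + (-1 : F) • r with hv
  have hvs : P.Sing v := P.sing_add _ _ (P.sing_map _ _ (P.f_sing l)) (P.sing_smul _ _ hrs)
    (by rw [P.smul_right, hrv, mul_zero])
  have hve : P.β v (P.e l) = P.β v0 (P.e l) := by
    rw [hv, P.add_left, P.smul_left, (P.mem_Fl.1 hrA).1 l, mul_zero, add_zero]
  obtain ⟨x, k, hk, hx, hxf⟩ := P.exists_X_move (a := (l, true)) hvs (by rw [P.vec_true, hve]; exact hne)
    (fun d h1 h2 => by
      obtain ⟨j, b⟩ := d
      simp only [opp, Bool.not_true, ne_eq, Prod.mk.injEq] at h1 h2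
      have hj : j ≠ l := by
        cases b
        · exact fun e => h2 ⟨e, rfl⟩
        · exact fun e => h1 ⟨e, rfl⟩
      have hj' : j.val < l.val := by have := Fin.val_ne_of_ne hj; omega
      rw [hv, P.add_left, P.smul_left, hr, P.sum_left]
      cases b
      · rw [P.vec_false, Finset.sum_eq_single j (fun k _ hk => by rw [P.smul_left, P.ef, if_neg hk, mul_zero])
          (fun h => absurd (Finset.mem_filter.2 ⟨Finset.mem_univ j, hj'⟩) h), P.smul_left, P.ef, if_pos rfl]
        ring
      · rw [P.vec_true, horth j hj', Finset.sum_eq_zero (fun k _ => by rw [P.smul_left, P.ee, mul_zero])]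
        ring)
  simp only [opp, Bool.not_true, P.vec_false] at hxf
  refine ⟨x, hx, ?_⟩
  have hxB : x ∈ P.bor := P.uni_le_bor (hx.mem_uni (P := P))
  have hg'B : g * x ∈ P.bor := mul_mem hg hxB
  have hgf : P.ρ (g * x) (P.f l) - k • P.f l ∈ P.Fl l.val := by
    rw [P.ρ_mul, hxf, hv, map_smul, map_add, map_smul, hv0, P.ρ_self_inv, smul_add, add_sub_cancel_left]
    exact Submodule.smul_mem _ _ (Submodule.smul_mem _ _ (P.bor_map hg hrA))
  have hsFl : ∀ y ∈ P.Fl l.val, P.ρ s y = y := by
    intro y hy
    rw [Fl_eq] at hy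
    induction hy using Submodule.span_induction with
    | mem y' hy' =>
      obtain ⟨⟨j, b⟩, ⟨hb, hj⟩, rfl⟩ := hy'
      simp only at hb hj
      subst hb
      exact hs _ (by simp only [ne_eq, Prod.mk.injEq, and_true]; exact fun e => by omega) (by simp)
    | zero => rw [map_zero]
    | add p q _ _ hp hq => rw [map_add, hp, hq]
    | smul c p _ hp => rw [map_smul, hp]
  intro j
  by_cases hj : j = l
  · subst hj
    obtain ⟨r', hr0, hr'⟩ := P.exists_scalar hs2
    rw [P.vec_false, P.vec_true] at hr'
    have hsinv : P.ρ s⁻¹ (P.e j) = r'⁻¹ • P.f j := by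
      have := congrArg (P.ρ s⁻¹) hr'
      rw [P.ρ_inv_self, map_smul] at this
      rw [this, smul_smul, inv_mul_cancel₀ hr0, one_smul]
    rw [P.ρ_mul, P.ρ_mul, hsinv, map_smul, map_smul]
    refine Submodule.smul_mem _ _ ?_
    rw [← sub_add_cancel (P.ρ (g * x) (P.f j)) (k • P.f j), map_add, hsFl _ hgf, map_smul, hr']
    exact add_mem (P.Fl_mono (Nat.le_succ _) hgf)
      (Submodule.smul_mem _ _ (Submodule.smul_mem _ _ (P.e_mem_Fl (Nat.lt_succ_self _))))
  · have hj' : j.val < l.val := by have := Fin.val_ne_of_ne hj; omega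
    have hsj : P.ρ s (P.e j) = P.e j := hsFl _ (P.e_mem_Fl hj')
    have hsinv : P.ρ s⁻¹ (P.e j) = P.e j := by
      conv_lhs => rw [← hsj]
      exact P.ρ_inv_self _ _
    rw [P.ρ_mul, P.ρ_mul, hsinv, hsFl _ (P.Fl_mono (by omega) (hg'B j))]
    exact hg'B j

/-- `sX ⊆ BY` off the identity at the short root. -/
theorem short_step {l : Fin m} {s : G}
    (hs : ∀ d, d ≠ (l, true) → d ≠ (l, false) → P.ρ s (P.vec d) = P.vec d)
    (hs2 : P.ρ s (P.vec (l, false)) ∈ P.ln (l, true))
    {x : G} (hx : P.IsX x (l, true)) :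
    x = 1 ∨ ∃ y, P.IsX y (l, false) ∧ s * x⁻¹ * y ∈ P.bor := by
  have hfix : ∀ g b, P.IsX g (l, b) → ∀ d, d ≠ (l, true) → d ≠ (l, false) → P.ρ g (P.vec d) = P.vec d := by
    intro g b hg d h1 h2
    refine hg.apply_other (P := P) ?_
    cases b <;> simp [opp, h1, h2]
  obtain ⟨z, a, hz, hg⟩ := id hx
  by_cases ha : a = 0
  · left
    have hz0 : z = 0 := P.aniso z hz ((P.par_zero_iff z).1 (ha ▸ hg.2.2.1))
    refine P.eq_one_of_fix fun y => ?_
    rw [hg.2.2.2, ha, hz0, P.zero_right]; simp
  right
  set v := P.ρ x (P.f l) with hv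
  have hvf : P.β v (P.f l) ≠ 0 := by
    rw [hv, hg.2.2.2, P.vec_true, P.fe, if_pos rfl, P.symm_zero (hz l).2, mul_zero, P.add_left, P.add_left,
      P.smul_left, P.smul_left, P.ff, (hz l).2, P.ef, if_pos rfl]
    simpa using ⟨ha, P.ε_ne⟩
  obtain ⟨y, k, hk, hy, hye⟩ := P.exists_X_move (a := (l, false)) (P.sing_map _ _ (P.f_sing l)) hvf (fun d h1 h2 => by
    rw [← hfix x true hx d h2 h1, P.map]
    exact P.beta_vec_ne (a := (l, false)) h2)
  simp only [opp, Bool.not_false, P.vec_true] at hye
  refine ⟨y, hy, fun j => ?_⟩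
  by_cases hj : j = l
  · subst hj
    rw [P.ρ_mul, P.ρ_mul, hye, map_smul, map_smul, P.ρ_inv_self]
    obtain ⟨r, hr⟩ := P.mem_ln.1 hs2
    rw [show P.ρ s (P.f j) = r • P.vec (j, true) from hr.symm, P.vec_true]
    exact Submodule.smul_mem _ _ (Submodule.smul_mem _ _ (P.e_mem_Fl (Nat.lt_succ_self _)))
  · have h1 : (j, true) ≠ (l, true) := by simpa using hj
    have h2 : (j, true) ≠ (l, false) := by simp
    have e : P.ρ (s * x⁻¹ * y) (P.vec (j, true)) = P.vec (j, true) := by
      rw [P.ρ_mul, P.ρ_mul, hfix y false hy _ h1 h2]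
      conv_lhs => rw [← hfix x true hx _ h1 h2, P.ρ_inv_self]
      exact hs _ h1 h2
    rw [show P.ρ (s * x⁻¹ * y) (P.e j) = P.e j from e]
    exact P.e_mem_Fl (Nat.lt_succ_self _)

end Polar

end Cfsg.Lib.PolarBN
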