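import Cfsg.Agent.Known.PolarBN.SplitOpp
import Cfsg.Agent.Classical.Symp.Matrix

/-! The polar space of a symplectic group, and its Steinberg character. -/

set_option autoImplicit false

namespace Cfsg.Lib.PolarBN

open Cfsg.Lib.Classical

universe u v w

/-- If the middle is spanned by one vector, nothing of order `p` fixes the frame. -/
theorem Polar.mid_of_line {G : Type w} [Group G] [Finite G] {F : Type u} [Field F] {V : Type v} [AddCommGroup V]
    [Module F V] {m : ℕ} (P : Polar G F V m) (p : ℕ) [Fact p.Prime] [CharP F p] {w₀ : V}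
    (hline : ∀ w, P.W w → ∃ c : F, c • w₀ = w) (g : G) (hfix : ∀ a, P.ρ g (P.vec a) = P.vec a) (hg : g ^ p = 1) :
    g = 1 := by
  refine P.fix_frame hfix fun w hw => ?_
  have hgm : g ∈ P.mono := fun a => ⟨a, by rw [hfix]; exact P.vec_mem_ln a⟩
  by_cases hw0 : w = 0
  · rw [hw0, map_zero]
  obtain ⟨c, hc⟩ := hline w hw
  obtain ⟨d, hd⟩ := hline _ (P.mono_W hgm hw)
  have hc0 : c ≠ 0 := fun e => hw0 (by rw [← hc, e, zero_smul])
  have h1 : P.ρ g w = (d / c) • w := by
    rw [← hd]
    conv_rhs => rw [← hc]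
    rw [smul_smul, div_mul_cancel₀ _ hc0]
  have hpow : ∀ n : ℕ, P.ρ (g ^ n) w = (d / c) ^ n • w := by
    intro n
    induction n with
    | zero => rw [pow_zero, P.ρ_one, pow_zero, one_smul]
    | succ n ih => rw [pow_succ, P.ρ_mul, h1, map_smul, ih, smul_smul, ← pow_succ']
  have h2 := hpow p
  rw [hg, P.ρ_one] at h2
  have h3 : ((d / c) ^ p - 1) • w = 0 := by rw [sub_smul, one_smul, ← h2, sub_self]
  have h4 : (d / c - 1) ^ p = 0 := by
    rw [sub_pow_char, one_pow]
    exact (smul_eq_zero.1 h3).resolve_right hw0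
  rw [h1, sub_eq_zero.1 (pow_eq_zero_iff (Fact.out : p.Prime).ne_zero |>.1 h4), one_smul]

section

variable (m : ℕ) (F : Type u) [Field F]

/-- The left vectors. -/
noncomputable def spE (i : Fin m) : Fin m ⊕ Fin m → F := Pi.single (Sum.inr i) 1

/-- The right vectors. -/
noncomputable def spF (i : Fin m) : Fin m ⊕ Fin m → F := Pi.single (Sum.inl i) 1

theorem sp_left (x : Fin m ⊕ Fin m → F) (i : Fin m) :
    sympBilin m F x (spE m F i) = -x (Sum.inl i) ∧ sympBilin m F x (spF m F i) = x (Sum.inr i) := by
  simp [sympBilin_eq_sum, spE, spF, Pi.single_apply, Finset.sum_sub_distrib]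

/-- The symplectic polar space. -/
noncomputable def spPolar (hm : 1 ≤ m) :
    Polar (Matrix.symplecticGroup (Fin m) F) F (Fin m ⊕ Fin m → F) m where
  ρ :=
    { toFun := fun A => Matrix.toLin' (A : Matrix (Fin m ⊕ Fin m) (Fin m ⊕ Fin m) F)
      map_one' := by simp [Module.End.one_eq_id]
      map_mul' := fun A B => by simp [Matrix.toLin'_mul, Module.End.mul_eq_comp] }
  inj A B h := Subtype.ext (Matrix.toLin'.injective h)
  σ := RingHom.id F
  σσ _ := rfl
  ε := -1
  ε_sq := by ring
  σε := rfl
  β x y := sympBilin m F x y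
  add_left x y z := by simp
  smul_left c x z := by simp
  symm x y := by
    have h := (sympBilin_isAlt m F).neg_eq x y
    simp only [RingHom.id_apply]
    rw [← h]; ring
  nd x hx := (sympBilin_nondegenerate m F).1 x hx
  map A x y := (mem_symplectic_iff_form _).1 A.2 x y
  Sing _ := True
  sing_smul _ _ _ := trivial
  sing_add _ _ _ _ _ := trivial
  sing_map _ _ _ := trivial
  sing_self x _ := sympBilin_isAlt m F x
  par _ _ := True
  par_ex _ := ⟨0, trivial⟩
  par_smul _ _ _ _ := trivial
  par_map _ _ _ _ := trivial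
  par_zero_iff _ := Iff.rfl
  par_of _ _ _ _ _ _ _ _ _ _ := trivial
  sieg x z a _ hzx _ := by
    set hA := sympBilin_isAlt m F
    refine ⟨(sympEquiv m F).symm (sympT hA (x + z) 1 * sympT hA z (-1) * sympT hA x (a - 1)), fun y => ?_⟩
    have hxz : sympBilin m F x z = 0 := by rw [← hA.neg_eq, hzx, neg_zero]
    show Matrix.toLin' _ y = _
    rw [Matrix.toLin'_apply, sympEquiv_symm_mulVec, BilinIsom.mul_apply', BilinIsom.mul_apply', sympT_apply,
      sympT_apply, sympT_apply]
    simp only [map_add, LinearMap.add_apply, map_smul, LinearMap.smul_apply, smul_eq_mul, hzx, hxz,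
      sympBilin_isAlt m F x, sympBilin_isAlt m F z]
    match_scalars <;> ring
  e := spE m F
  f := spF m F
  e_sing _ := trivial
  f_sing _ := trivial
  ee i j := by rw [(sp_left m F _ j).1]; simp [spE]
  ff i j := by rw [(sp_left m F _ j).2]; simp [spF]
  ef i j := by
    rw [(sp_left m F _ j).2]
    by_cases h : i = j
    · subst h; simp [spE]
    · simp [spE, Ne.symm h, h]
  aniso x hx _ := by
    funext k
    rcases k with i | i
    · have := (hx i).1
      rw [(sp_left m F x i).1, neg_eq_zero] at this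
      exact this
    · have := (hx i).2
      rw [(sp_left m F x i).2] at this
      exact this
  D := False
  two h := h.elim
  noMid h := h.elim
  noPar h := h.elim
  short _ := ⟨0, fun i => ⟨by simp, by simp⟩, 1, one_ne_zero, trivial⟩
  last h := h.elim
  pos := hm

end

/-- The Steinberg character of `PSp`. -/
theorem stData_psp {F : Type u} [Field F] [Fintype F] (p : ℕ) [Fact p.Prime] [CharP F p] (m : ℕ) (hm : 1 ≤ m) :
    StData p (Cfsg.PSp m F) := by
  refine (spPolar m F hm).stData p ((spPolar m F hm).mid_of_line p (w₀ := 0) fun w hw => ⟨0, ?_⟩)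
  rw [zero_smul]
  exact ((spPolar m F hm).aniso w hw trivial).symm

end Cfsg.Lib.PolarBN
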